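import Cfsg.Agent.Mrg.Omega.ML.MinIrr
import Cfsg.Agent.ZN.Facts
import Cfsg.Agent.Mrg.Omega.FOne.ThmR.Main
import Cfsg.Agent.Involutions.BaerSuzuki

section


/-!
# (F1), the K-route for `R` of any size (helper69)

`X` acts on the 𝔽₂-space `W` and centralises `R ≤ W`, `C_W(T) ≤ R`; `M = W / R` is faithful.

* `cmR R B` : the preimage of `C_{W/R}(B)`;
* `FsR R θ T B` : THE FAITHFUL SECTION, additive form: `R`, `θ` instead of `{0, y}`, `θ`;
* `SwR R θ T N`, `AtR R N B` : the hypotheses of the reduction.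
-/

set_option autoImplicit false
set_option linter.unusedSectionVars false

namespace Cfsg.Agent.Omega.FOne.QR

open Subgroup Cfsg Cfsg.Agent.ZN

universe u v

section

variable {X : Type u} [Group X] {W : Type v} [AddCommGroup W] [DistribMulAction X W]

/-- the preimage in `W` of the fixed points of `B` on `W / R` -/
def cmR (R : AddSubgroup W) (B : Subgroup X) : AddSubgroup W where
  carrier := {w | ∀ b ∈ B, b • w + w ∈ R}
  zero_mem' := fun b _ => by rw [smul_zero, add_zero]; exact R.zero_mem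
  add_mem' := by
    intro v w hv hw b hb
    rw [smul_add, add_add_add_comm]
    exact R.add_mem (hv b hb) (hw b hb)
  neg_mem' := by
    intro w hw b hb
    rw [smul_neg, ← neg_add]
    exact R.neg_mem (hw b hb)

theorem sub_eq_add_of {W : Type v} [AddCommGroup W] (two : ∀ w : W, w + w = 0) (a b : W) : a - b = a + b := by
  rw [sub_eq_add_neg, neg_eq_of_add_eq_zero_left (two b)]

theorem mem_cmR {R : AddSubgroup W} {B : Subgroup X} {w : W} : w ∈ cmR R B ↔ ∀ b ∈ B, b • w + w ∈ R := Iff.rfl

theorem cmR_anti {R : AddSubgroup W} {B C : Subgroup X} (h : C ≤ B) : cmR R B ≤ cmR R C := fun _ hw b hb => hw b (h hb)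

/-- **The faithful section**, additive form. -/
structure FsR (R : AddSubgroup W) (θ : W) (T B : Subgroup X) : Prop where
  known : IsKGroupWith IsKnownSimple' X
  finX : Finite X
  finW : Finite W
  two : ∀ w : W, w + w = 0
  fixR : ∀ x : X, ∀ r ∈ R, x • r = r
  faith : ∀ x : X, (∀ w : W, x • w + w ∈ R) → x = 1
  T2 : IsPGroup 2 T
  syl : ¬ 2 ∣ T.index
  fixT : ∀ w : W, (∀ t ∈ T, t • w = w) → w ∈ R
  θR : θ ∉ R
  Tθ : ∀ t ∈ T, t • θ + θ ∈ R
  gen : ∀ U : AddSubgroup W, R ≤ U → (∀ x : X, x • θ ∈ U) → U = ⊤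
  BT : B ≤ T
  sq : ∀ b ∈ B, b * b = 1
  quad : ∀ a ∈ B, ∀ b ∈ B, ∀ w : W, a • (b • w + w) + (b • w + w) ∈ R
  four : 4 ≤ Nat.card B
  exact : (cmR R B).index = Nat.card B
  atom : ∀ C : Subgroup X, C ≤ B → C ≠ ⊥ → C ≠ B → Nat.card C < (cmR R C).index
  low : ∀ Q : Subgroup X, T ≤ Q → Q ≠ ⊤ → B ≤ o2 Q

/-- The hypotheses on `(H, W, R, θ, T, N)`. -/
structure SwR (R : AddSubgroup W) (θ : W) (T N : Subgroup X) : Prop where
  known : IsKGroupWith IsKnownSimple' X
  finX : Finite X
  finW : Finite W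
  two : ∀ w : W, w + w = 0
  fixR : ∀ x : X, ∀ r ∈ R, x • r = r
  faith : ∀ x : X, (∀ w : W, x • w + w ∈ R) → x = 1
  T2 : IsPGroup 2 T
  syl : ¬ 2 ∣ T.index
  fixT : ∀ w : W, (∀ t ∈ T, t • w = w) → w ∈ R
  θR : θ ∉ R
  Tθ : ∀ t ∈ T, t • θ + θ ∈ R
  gen : ∀ U : AddSubgroup W, R ≤ U → (∀ x : X, x • θ ∈ U) → U = ⊤
  N2 : IsPGroup 2 N
  Nθ : ∀ n ∈ N, n • θ + θ ∈ R
  Nn : ∀ x : X, x • θ + θ ∈ R → ∀ n ∈ N, x * n * x⁻¹ ∈ N

/-- an atom of order at least 4 in `N` -/
structure AtR (R : AddSubgroup W) (N B : Subgroup X) : Prop where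
  BN : B ≤ N
  sq : ∀ b ∈ B, b * b = 1
  quad : ∀ a ∈ B, ∀ b ∈ B, ∀ w : W, a • (b • w + w) + (b • w + w) ∈ R
  four : 4 ≤ Nat.card B
  exact : (cmR R B).index = Nat.card B
  atom : ∀ C : Subgroup X, C ≤ B → C ≠ ⊥ → C ≠ B → Nat.card C < (cmR R C).index

end

/-! ### the action on `W / R`, multiplicatively -/

section quo

variable {X : Type u} [Group X] {W : Type v} [AddCommGroup W] [DistribMulAction X W]

/-- `W / R`, written multiplicatively -/
abbrev MR (R : AddSubgroup W) : Type v := Multiplicative (W ⧸ R)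

/-- the projection -/
def mk (R : AddSubgroup W) (w : W) : MR R := Multiplicative.ofAdd (QuotientAddGroup.mk w)

theorem mk_add (R : AddSubgroup W) (a b : W) : mk R (a + b) = mk R a * mk R b := rfl

theorem mk_zero (R : AddSubgroup W) : mk R 0 = 1 := rfl

theorem mk_surj {R : AddSubgroup W} (v : MR R) : ∃ w, mk R w = v := by
  obtain ⟨w, hw⟩ := QuotientAddGroup.mk_surjective (Multiplicative.toAdd v)
  exact ⟨w, congrArg Multiplicative.ofAdd hw⟩

theorem mk_eq {R : AddSubgroup W} {a b : W} : mk R a = mk R b ↔ a - b ∈ R := by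
  have h1 : mk R a = mk R b ↔ (QuotientAddGroup.mk a : W ⧸ R) = QuotientAddGroup.mk b := Iff.rfl
  rw [h1, QuotientAddGroup.eq, ← neg_mem_iff]
  have e : -(-a + b) = a - b := by abel
  rw [e]

theorem mk_eq' (two : ∀ w : W, w + w = 0) {R : AddSubgroup W} {a b : W} : mk R a = mk R b ↔ a + b ∈ R := by
  rw [mk_eq, sub_eq_add_of two]

theorem mk_one {R : AddSubgroup W} {a : W} : mk R a = 1 ↔ a ∈ R := by
  rw [← mk_zero, mk_eq, sub_zero]

/-- the projection as a homomorphism -/
def mkH (R : AddSubgroup W) : Multiplicative W →* MR R := AddMonoidHom.toMultiplicative (QuotientAddGroup.mk' R)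

theorem mkH_apply (R : AddSubgroup W) (w : W) : mkH R (Multiplicative.ofAdd w) = mk R w := rfl

theorem mkH_surj (R : AddSubgroup W) : Function.Surjective (mkH R) := fun v => by
  obtain ⟨w, hw⟩ := mk_surj v
  exact ⟨Multiplicative.ofAdd w, hw⟩

/-- `X` acts on `W / R` -/
@[reducible] def act {R : AddSubgroup W} (hR : ∀ x : X, ∀ r ∈ R, x • r = r) : MulDistribMulAction X (MR R) where
  smul x v := Multiplicative.ofAdd (QuotientAddGroup.map R R (DistribSMul.toAddMonoidHom W x)
    (fun r hr => by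
      rw [AddSubgroup.mem_comap, DistribSMul.toAddMonoidHom_apply, hR x r hr]; exact hr) (Multiplicative.toAdd v))
  one_smul v := by
    obtain ⟨w, rfl⟩ := mk_surj v
    change mk R ((1 : X) • w) = mk R w
    rw [one_smul]
  mul_smul g h v := by
    obtain ⟨w, rfl⟩ := mk_surj v
    change mk R ((g * h) • w) = mk R (g • h • w)
    rw [mul_smul]
  smul_mul g v w := by
    obtain ⟨v, rfl⟩ := mk_surj v
    obtain ⟨w, rfl⟩ := mk_surj w
    change mk R (g • (v + w)) = mk R (g • v + g • w)
    rw [smul_add]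
  smul_one g := by
    change mk R (g • (0 : W)) = mk R 0
    rw [smul_zero]

/-- an action of `X` on `W / R` which is the natural one -/
structure IsA (X : Type u) [Group X] {W : Type v} [AddCommGroup W] [DistribMulAction X W] (R : AddSubgroup W)
    [MulDistribMulAction X (MR R)] : Prop where
  smul : ∀ (x : X) (w : W), x • mk R w = mk R (x • w)

theorem isA_act {R : AddSubgroup W} (hR : ∀ x : X, ∀ r ∈ R, x • r = r) : @IsA X _ W _ _ R (act hR) :=
  @IsA.mk X _ W _ _ R (act hR) fun _ _ => rfl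

end quo

end Cfsg.Agent.Omega.FOne.QR

end

section


/-!
# (F1), `R` of any size: atoms (helper792, for `QR/Front.lean`)

* `exists_atom` : an exact group `A ≠ 1` whose subgroups are sub-exact contains an atom;
* `add_mem_of_two`, `dich_of_two` : `(cmR R B).index = 2`;
* `card_cases` : a nontrivial 2-group has order 2 or at least 4.
-/

set_option autoImplicit false
set_option linter.unusedSectionVars false

namespace Cfsg.Agent.Omega.FOne.QR

open Subgroup Cfsg Cfsg.Agent.ZN

universe u v

variable {X : Type u} [Group X] {W : Type v} [AddCommGroup W] [DistribMulAction X W]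

/-- **Atoms exist**: an exact group `A ≠ 1`, all whose subgroups are sub-exact, contains an atom. -/
theorem exists_atom [Finite X] {R : AddSubgroup W} {A : Subgroup X} (hA : A ≠ ⊥)
    (hex : (cmR R A).index = Nat.card A) (hno : ∀ C ≤ A, Nat.card C ≤ (cmR R C).index) :
    ∃ B ≤ A, B ≠ ⊥ ∧ (cmR R B).index = Nat.card B ∧
      ∀ C : Subgroup X, C ≤ B → C ≠ ⊥ → C ≠ B → Nat.card C < (cmR R C).index := by
  classical
  have hex' : ∃ n : ℕ, ∃ C : Subgroup X, C ≤ A ∧ C ≠ ⊥ ∧ (cmR R C).index = Nat.card C ∧ Nat.card C = n :=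
    ⟨Nat.card A, A, le_rfl, hA, hex, rfl⟩
  obtain ⟨B, hBA, hB1, hBex, hBn⟩ := Nat.find_spec hex'
  refine ⟨B, hBA, hB1, hBex, fun C hCB hC1 hCne => ?_⟩
  refine lt_of_le_of_ne (hno C (hCB.trans hBA)) fun heq => ?_
  have h1 : Nat.card C < Nat.card B := by
    refine lt_of_le_of_ne (Nat.le_of_dvd Nat.card_pos (card_dvd_of_le hCB)) fun h => ?_
    exact hCne (Subgroup.eq_of_le_of_card_ge hCB h.ge)
  rw [hBn] at h1
  exact Nat.find_min hex' h1 ⟨C, hCB.trans hBA, hC1, heq.symm, rfl⟩

/-- `(cmR R B).index = 2`: the sum of two vectors outside is inside. -/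
theorem add_mem_of_two {R : AddSubgroup W} {B : Subgroup X} (hix : (cmR R B).index = 2) {v w : W}
    (hv : v ∉ cmR R B) (hw : w ∉ cmR R B) : v + w ∈ cmR R B :=
  (AddSubgroup.add_mem_iff_of_index_two hix).2 (iff_of_false hv hw)

/-- **The order-2 lemma**: if `B` has index 2 on `W / R`, every `b ∈ B` fixes one of `v`, `w`, `v + w` modulo `R`. -/
theorem dich_of_two {R : AddSubgroup W} {B : Subgroup X} (hix : (cmR R B).index = 2) {b : X} (hb : b ∈ B)
    (v w : W) : b • v + v ∈ R ∨ b • w + w ∈ R ∨ b • (v + w) + (v + w) ∈ R := by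
  by_cases hv : v ∈ cmR R B
  · exact Or.inl (hv b hb)
  · by_cases hw : w ∈ cmR R B
    · exact Or.inr (Or.inl (hw b hb))
    · exact Or.inr (Or.inr (add_mem_of_two hix hv hw b hb))

/-- the same for all elements of `B` at once -/
theorem dich_of_two' {R : AddSubgroup W} {B : Subgroup X} (hix : (cmR R B).index = 2) (v w : W) :
    v ∈ cmR R B ∨ w ∈ cmR R B ∨ v + w ∈ cmR R B := by
  by_cases hv : v ∈ cmR R B
  · exact Or.inl hv
  · by_cases hw : w ∈ cmR R B
    · exact Or.inr (Or.inl hw)
    · exact Or.inr (Or.inr (add_mem_of_two hix hv hw))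

/-- A nontrivial 2-group has order 2 or at least 4. -/
theorem card_cases [Finite X] {B : Subgroup X} (h2 : IsPGroup 2 B) (hne : B ≠ ⊥) :
    Nat.card B = 2 ∨ 4 ≤ Nat.card B := by
  have : Fact (Nat.Prime 2) := ⟨Nat.prime_two⟩
  obtain ⟨n, hn⟩ := IsPGroup.iff_card.1 h2
  rcases n with _ | _ | n
  · rw [pow_zero, Subgroup.card_eq_one] at hn
    exact absurd hn hne
  · exact Or.inl (by rw [hn]; norm_num)
  · right
    rw [hn]
    calc 4 = 2 ^ 2 := by norm_num
      _ ≤ 2 ^ (n + 1 + 1) := Nat.pow_le_pow_right (by norm_num) (by omega)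

/-- an involution of a subgroup of order 2 generates it -/
theorem exists_gen_of_two {B : Subgroup X} (h2 : Nat.card B = 2) : ∃ b ∈ B, b ≠ 1 ∧ ∀ x ∈ B, x = 1 ∨ x = b := by
  have hfin : Finite B := Nat.finite_of_card_ne_zero (by omega)
  have hne : B ≠ ⊥ := by
    rintro rfl
    rw [Subgroup.card_bot] at h2
    omega
  obtain ⟨⟨b, hb⟩, hb1⟩ := ne_bot_iff_exists_ne_one.1 hne
  refine ⟨b, hb, fun h => hb1 (Subtype.ext h), fun x hx => ?_⟩
  by_contra hcon
  push Not at hcon
  have h3 : 3 ≤ Nat.card B := by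
    classical
    haveI := Fintype.ofFinite B
    rw [Nat.card_eq_fintype_card]
    have : ({(1 : B), ⟨b, hb⟩, ⟨x, hx⟩} : Finset B).card = 3 := by
      rw [Finset.card_eq_three]
      refine ⟨1, ⟨b, hb⟩, ⟨x, hx⟩, fun h => hb1 h.symm, fun h => hcon.1 (congrArg Subtype.val h).symm,
        fun h => hcon.2 (congrArg Subtype.val h).symm, rfl⟩
    rw [← this]
    exact Finset.card_le_univ _
  omega

end Cfsg.Agent.Omega.FOne.QR

end

section


/-!
# (F1), the K-route for `R` of any size: the minimal overgroup, first part (helper69)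

* `Bs`, `kk`, `sp` : `C_X(U / R)`, the preimage of `⟨z^X⟩`;
* `no_rel` : (ML) for `X ≤ H` on `⟨z^X⟩`;
* `SwR.dich` : an atom is trivial on `M_X` or `B ∩ K_X = 1`, `W = W_X + C(B)`;
* `SwR.le_o2_of_le` : an atom in `K_Q` is in `O₂(Q)`.
-/

set_option autoImplicit false
set_option linter.unusedSectionVars false

namespace Cfsg.Agent.Omega.FOne.QR

open Subgroup Cfsg Cfsg.Agent.ZN
open Cfsg.Agent.Omega.ML.MinFrame (orb fxr)
open Cfsg.Agent.ClassTwoFusion.Quad (cv mem_cv)

universe u v

variable {H : Type u} [Group H] {W : Type v} [AddCommGroup W] [DistribMulAction H W]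

/-- `R` is centralised by `H`, `W` has exponent 2 -/
structure Bs (H : Type u) [Group H] {W : Type v} [AddCommGroup W] [DistribMulAction H W] (R : AddSubgroup W) :
    Prop where
  two : ∀ w : W, w + w = 0
  fixR : ∀ h : H, ∀ r ∈ R, h • r = r

/-- `{h : [U, h] ≤ R}` -/
def kk {R : AddSubgroup W} (b : Bs H R) (U : AddSubgroup W) : Subgroup H where
  carrier := {h | ∀ u ∈ U, h • u + u ∈ R}
  one_mem' := fun u _ => by rw [one_smul, b.two]; exact R.zero_mem
  mul_mem' := by
    intro g h hg hh u hu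
    have e : (g * h) • u + u = g • (h • u + u) + (g • u + u) := by
      have h1 : g • u + g • u = 0 := b.two _
      rw [mul_smul, smul_add]
      calc g • h • u + u = g • h • u + (g • u + g • u) + u := by rw [h1, add_zero]
        _ = _ := by abel
    rw [e, b.fixR g _ (hh u hu)]
    exact R.add_mem (hh u hu) (hg u hu)
  inv_mem' := by
    intro h hh u hu
    have e : h⁻¹ • u + u = h⁻¹ • (h • u + u) := by
      rw [smul_add, inv_smul_smul, add_comm]
    rw [e, b.fixR _ _ (hh u hu)]
    exact hh u hu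

variable {R : AddSubgroup W} (b : Bs H R)

theorem mem_kk {U : AddSubgroup W} {h : H} : h ∈ kk b U ↔ ∀ u ∈ U, h • u + u ∈ R := Iff.rfl

include b in
/-- the elements fixed by `h` modulo `R` -/
theorem fix_mod {h : H} {w : W} : h • w + w ∈ R ↔ ∃ r ∈ R, h • w = w + r := by
  constructor
  · intro hh
    refine ⟨_, hh, ?_⟩
    rw [add_left_comm, b.two, add_zero]
  · rintro ⟨r, hr, e⟩
    rw [e, add_right_comm, b.two, zero_add]
    exact hr

theorem kk_conj {U : AddSubgroup W} {x k : H} (hU : ∀ u ∈ U, x⁻¹ • u ∈ U) (hk : k ∈ kk b U) :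
    x * k * x⁻¹ ∈ kk b U := by
  intro u hu
  have e : (x * k * x⁻¹) • u + u = x • (k • x⁻¹ • u + x⁻¹ • u) := by
    rw [smul_add, smul_inv_smul, mul_smul, mul_smul]
  rw [e, b.fixR _ _ (hk _ (hU u hu))]
  exact hk _ (hU u hu)

/-- the preimage of `⟨z^X⟩` -/
def sp (R : AddSubgroup W) (X : Subgroup H) (z : W) : AddSubgroup W :=
  AddSubgroup.closure ((R : Set W) ∪ {w | ∃ x ∈ X, w = x • z})

theorem le_sp (R : AddSubgroup W) (X : Subgroup H) (z : W) : R ≤ sp R X z := fun _ hr =>
  AddSubgroup.subset_closure (Or.inl hr)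

theorem smul_mem_sp' (R : AddSubgroup W) {X : Subgroup H} (z : W) {x : H} (hx : x ∈ X) : x • z ∈ sp R X z :=
  AddSubgroup.subset_closure (Or.inr ⟨x, hx, rfl⟩)

theorem mem_sp (R : AddSubgroup W) (X : Subgroup H) (z : W) : z ∈ sp R X z := by
  have := smul_mem_sp' R z X.one_mem
  rwa [one_smul] at this

theorem sp_le {U : AddSubgroup W} {X : Subgroup H} {z : W} (hR : R ≤ U) (hU : ∀ x ∈ X, x • z ∈ U) : sp R X z ≤ U := by
  rw [sp, AddSubgroup.closure_le]
  rintro w (hw | ⟨x, hx, rfl⟩)
  · exact hR hw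
  · exact hU x hx

include b in
theorem smul_mem_sp {X : Subgroup H} {z : W} {x : H} (hx : x ∈ X) {u : W} (hu : u ∈ sp R X z) :
    x • u ∈ sp R X z := by
  have h1 : sp R X z ≤ (sp R X z).comap (DistribSMul.toAddMonoidHom W x) := by
    refine sp_le ?_ ?_
    · intro r hr
      change x • r ∈ sp R X z
      rw [b.fixR x r hr]
      exact le_sp R X z hr
    · intro y hy
      change x • y • z ∈ sp R X z
      rw [← mul_smul]
      exact smul_mem_sp' R z (X.mul_mem hx hy)
  exact h1 hu

theorem mem_kk_sp {X : Subgroup H} {z : W} {h : H} : h ∈ kk b (sp R X z) ↔ ∀ x ∈ X, h • x • z + x • z ∈ R := by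
  constructor
  · intro hh x hx
    exact hh _ (smul_mem_sp' R z hx)
  · intro hh u hu
    let U : AddSubgroup W :=
      { carrier := {w | h • w + w ∈ R}
        zero_mem' := by
          change h • (0 : W) + 0 ∈ R
          rw [smul_zero, add_zero]; exact R.zero_mem
        add_mem' := by
          intro v w hv hw
          change h • (v + w) + (v + w) ∈ R
          rw [smul_add, add_add_add_comm]
          exact R.add_mem hv hw
        neg_mem' := by
          intro w hw
          change h • (-w) + -w ∈ R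
          rw [smul_neg, ← neg_add]
          exact R.neg_mem hw }
    have h1 : sp R X z ≤ U := by
      refine sp_le ?_ hh
      intro r hr
      change h • r + r ∈ R
      rw [b.fixR h r hr, b.two]
      exact R.zero_mem
    exact h1 hu

theorem kk_norm {X : Subgroup H} {z : W} {x k : H} (hx : x ∈ X) (hk : k ∈ kk b (sp R X z)) :
    x * k * x⁻¹ ∈ kk b (sp R X z) :=
  kk_conj b (fun _ hu => smul_mem_sp b (X.inv_mem hx) hu) hk

/-- **(ML) for `X ≤ H` on the submodule generated by `z` modulo `R`** -/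
theorem no_rel (hML : ML.Final.MLK.{u, v}) [Finite H] [Finite W] (hK : IsKGroupWith IsKnownSimple' H)
    {X T Q A : Subgroup H} {z : W} (TX : T ≤ X) (T2 : IsPGroup 2 T) (syl : ¬ 2 ∣ T.relIndex X)
    (Tz : ∀ t ∈ T, t • z + z ∈ R) (QX : Q ≤ X) (Q2 : IsPGroup 2 Q) (Qz : ∀ q ∈ Q, q • z + z ∈ R)
    (Qn : ∀ x ∈ X, x • z + z ∈ R → ∀ q ∈ Q, x * q * x⁻¹ ∈ Q) (AQ : A ≤ Q) (sq : ∀ a ∈ A, a * a = 1) :
    (kk b (sp R X z)).relIndex A ≤ (cmR R A).relIndex (sp R X z) := by
  classical
  letI := act (X := X) (R := R) fun x r hr => b.fixR x r hr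
  have hfin : Finite (MR R) := Finite.of_surjective (mkH R) (mkH_surj R)
  have hsm : ∀ (x : X) (w : W), x • mk R w = mk R ((x : H) • w) := fun _ _ => rfl
  have AX : A ≤ X := AQ.trans QX
  have D : ML.Final.Dat (C := X) (V := MR R) (T.subgroupOf X) (Q.subgroupOf X) (A.subgroupOf X) (mk R z) := by
    refine ⟨?_, T2.of_equiv (subgroupOfEquivOfLe TX).symm, syl, ?_, ?_, ?_, ?_, ?_, ?_⟩
    · intro v
      obtain ⟨w, rfl⟩ := mk_surj v
      rw [← mk_add, b.two, mk_zero]
    · intro t ht
      rw [hsm, mk_eq' b.two]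
      exact Tz _ ht
    · intro q hq
      obtain ⟨n, hn⟩ := Q2 ⟨q, hq⟩
      refine ⟨n, fun v => ?_⟩
      have h2 : (q : H) ^ 2 ^ n = 1 := congrArg Subtype.val hn
      have h1 : q ^ 2 ^ n = 1 := Subtype.ext h2
      rw [h1, one_smul]
    · intro q hq
      rw [hsm, mk_eq' b.two]
      exact Qz _ hq
    · intro g hg q hq
      rw [hsm, mk_eq' b.two] at hg
      exact ⟨g * q * g⁻¹, Qn g g.2 hg q hq, fun _ => rfl⟩
    · intro a ha
      exact ⟨a, AQ ha, fun _ => rfl⟩
    · intro a ha v
      have h1 : a * a = 1 := Subtype.ext (sq a ha)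
      rw [← mul_smul, h1, one_smul]
  have key := hML.act (ML.Final.kgroup_of_surj hK X (MonoidHom.id X) fun x => ⟨x, rfl⟩) D
  have horb : orb (⊤ : Subgroup X) (mk R z) = (AddSubgroup.toSubgroup (sp R X z)).map (mkH R) := by
    apply le_antisymm
    · rw [orb, closure_le]
      rintro _ ⟨g, -, rfl⟩
      exact ⟨Multiplicative.ofAdd ((g : H) • z), smul_mem_sp' R z g.2, rfl⟩
    · rw [map_le_iff_le_comap]
      intro w hw
      let U : AddSubgroup W :=
        { carrier := {w | mk R w ∈ orb (⊤ : Subgroup X) (mk R z)}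
          zero_mem' := by
            change mk R 0 ∈ orb (⊤ : Subgroup X) (mk R z)
            rw [mk_zero]; exact one_mem _
          add_mem' := by
            intro v w hv hw
            change mk R (v + w) ∈ orb (⊤ : Subgroup X) (mk R z)
            rw [mk_add]
            exact mul_mem hv hw
          neg_mem' := by
            intro w hw
            have : mk R (-w) = (mk R w)⁻¹ := rfl
            change mk R (-w) ∈ orb (⊤ : Subgroup X) (mk R z)
            rw [this]
            exact inv_mem hw }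
      have h1 : sp R X z ≤ U := by
        refine sp_le ?_ ?_
        · intro r hr
          change mk R r ∈ orb (⊤ : Subgroup X) (mk R z)
          rw [mk_one.2 hr]; exact one_mem _
        · intro x hx
          exact subset_closure ⟨⟨x, hx⟩, mem_top _, rfl⟩
      exact h1 hw
  have hcv : (cv (MR R) ((A.subgroupOf X : Subgroup X) : Set X)).comap (mkH R) =
      AddSubgroup.toSubgroup (cmR R A) := by
    ext w
    rw [mem_comap, mem_cv]
    change (∀ a ∈ (A.subgroupOf X : Set X), a • mk R (Multiplicative.toAdd w) = mk R (Multiplicative.toAdd w)) ↔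
      Multiplicative.toAdd w ∈ cmR R A
    rw [mem_cmR]
    constructor
    · intro h3 a ha
      have h4 := h3 ⟨a, AX ha⟩ ha
      rw [hsm, mk_eq' b.two] at h4
      exact h4
    · intro h3 a ha
      rw [hsm, mk_eq' b.two]
      exact h3 _ ha
  have hfx : fxr X (orb (⊤ : Subgroup X) (mk R z)) = (kk b (sp R X z)).subgroupOf X := by
    ext x
    rw [mem_subgroupOf, horb]
    constructor
    · intro hx u hu
      have h1 := hx (mk R u) ⟨Multiplicative.ofAdd u, hu, rfl⟩
      rw [hsm, mk_eq' b.two] at h1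
      exact h1
    · rintro hx _ ⟨u, hu, rfl⟩
      change x • mk R (Multiplicative.toAdd u) = mk R (Multiplicative.toAdd u)
      rw [hsm, mk_eq' b.two]
      exact hx _ hu
  rw [hfx, relIndex_subgroupOf AX, horb, ← relIndex_comap, hcv] at key
  exact key

end Cfsg.Agent.Omega.FOne.QR

end

section


/-!
# (F1), the K-route for `R` of any size: the minimal overgroup, second part (helper69)

* `SwR.no` : (NO) on `W / R`;
* `SwR.dich` : an atom is trivial on `M_X` or `B ∩ K_X = 1`, `W = W_X + C(B)`;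
* `SwR.exists_min` : the minimal overgroup `X` on which some atom `B` is not trivial;
* `MinX` : its properties.
-/

set_option autoImplicit false
set_option linter.unusedSectionVars false

namespace Cfsg.Agent.Omega.FOne.QR

open Subgroup Cfsg Cfsg.Agent.ZN

universe u v

variable {H : Type u} [Group H] {W : Type v} [AddCommGroup W] [DistribMulAction H W]
  {R : AddSubgroup W} {θ : W} {T N : Subgroup H}

theorem SwR.bs (S : SwR R θ T N) : Bs H R := ⟨S.two, S.fixR⟩

theorem SwR.sylX (S : SwR R θ T N) {X : Subgroup H} (hTX : T ≤ X) : ¬ 2 ∣ T.relIndex X := fun h =>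
  S.syl (h.trans (relIndex_dvd_index_of_le hTX))

/-- `N ≤ T` -/
theorem SwR.NT (S : SwR R θ T N) : N ≤ T := by
  have := S.finX
  have : Fact (Nat.Prime 2) := ⟨Nat.prime_two⟩
  have h1 : IsPGroup 2 (T ⊔ N : Subgroup H) := by
    refine IsPGroup.to_sup_of_normal_right' S.T2 S.N2 fun t ht => ?_
    rw [mem_normalizer_iff]
    intro n
    constructor
    · exact S.Nn t (S.Tθ t ht) n
    · intro hn
      have := S.Nn t⁻¹ (S.Tθ _ (T.inv_mem ht)) _ hn
      have e : t⁻¹ * (t * n * t⁻¹) * t⁻¹⁻¹ = n := by group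
      rwa [e] at this
  have h2 : T ⊔ N = T := (S.T2.toSylow S.syl).is_maximal' h1 le_sup_left
  calc N ≤ T ⊔ N := le_sup_right
    _ = T := h2

theorem SwR.sp_top (S : SwR R θ T N) : sp R (⊤ : Subgroup H) θ = ⊤ :=
  S.gen _ (le_sp R _ θ) fun x => smul_mem_sp' R θ (mem_top x)

theorem SwR.kk_top (S : SwR R θ T N) : kk S.bs (sp R (⊤ : Subgroup H) θ) = ⊥ := by
  rw [eq_bot_iff]
  intro x hx
  rw [S.sp_top] at hx
  exact mem_bot.2 (S.faith x fun w => hx w (AddSubgroup.mem_top w))

/-- (ML) for `T ≤ X` -/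
theorem SwR.rel (S : SwR R θ T N) (hML : ML.Final.MLK.{u, v}) {X A : Subgroup H} (hTX : T ≤ X) (AN : A ≤ N)
    (sq : ∀ a ∈ A, a * a = 1) : (kk S.bs (sp R X θ)).relIndex A ≤ (cmR R A).relIndex (sp R X θ) := by
  have := S.finX
  have := S.finW
  exact no_rel S.bs hML S.known hTX S.T2 (S.sylX hTX) S.Tθ (S.NT.trans hTX) S.N2 S.Nθ (fun x _ => S.Nn x) AN sq

/-- **(NO)** on `W / R` -/
theorem SwR.no (S : SwR R θ T N) (hML : ML.Final.MLK.{u, v}) {A : Subgroup H} (AN : A ≤ N)
    (sq : ∀ a ∈ A, a * a = 1) : Nat.card A ≤ (cmR R A).index := by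
  have h := S.rel hML (X := ⊤) le_top AN sq
  rw [S.kk_top, S.sp_top, relIndex_bot_left, AddSubgroup.relIndex_top_right] at h
  exact h

/-- **(1)** : an atom is trivial on `M_X`, or faithful on it with `W = W_X + C(B)`. -/
theorem SwR.dich (S : SwR R θ T N) (hML : ML.Final.MLK.{u, v}) {X B : Subgroup H} (hTX : T ≤ X) (hB : AtR R N B) :
    B ≤ kk S.bs (sp R X θ) ∨ (B ⊓ kk S.bs (sp R X θ) = ⊥ ∧ sp R X θ ⊔ cmR R B = ⊤) := by
  have := S.finX
  have := S.finW
  set K := kk S.bs (sp R X θ) with hK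
  set D := B ⊓ K with hD
  have h1 : K.relIndex B ≤ (cmR R B).relIndex (sp R X θ) := S.rel hML hTX hB.BN hB.sq
  have h2 : K.relIndex B * Nat.card D = Nat.card B := by
    have h3 : (K.subgroupOf B).index * Nat.card (K.subgroupOf B) = Nat.card B := index_mul_card _
    have h4 : Nat.card (K.subgroupOf B) = Nat.card D := by
      rw [hD, ← inf_subgroupOf_left K B]
      exact Nat.card_congr (subgroupOfEquivOfLe inf_le_left).toEquiv
    rw [h4] at h3
    exact h3
  have hUD : sp R X θ ≤ cmR R D := fun u hu d hd => hd.2 u hu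
  have hBD : cmR R B ≤ cmR R D := cmR_anti inf_le_left
  have h3 : (cmR R B).relIndex (sp R X θ) ≤ (cmR R B).relIndex (cmR R D) :=
    AddSubgroup.relIndex_le_of_le_right hUD AddSubgroup.index_ne_zero_of_finite
  have h4 : (cmR R B).relIndex (cmR R D) * (cmR R D).index = Nat.card B := by
    rw [AddSubgroup.relIndex_mul_index hBD, hB.exact]
  have hpos : 0 < K.relIndex B := Nat.pos_of_ne_zero index_ne_zero_of_finite
  by_cases hDB : D = B
  · left
    rw [← hDB]
    exact inf_le_right
  by_cases hD0 : D = ⊥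
  · right
    refine ⟨hD0, ?_⟩
    rw [hD0, card_bot, mul_one] at h2
    have h5 : (cmR R B).relIndex (sp R X θ ⊔ cmR R B) * (sp R X θ ⊔ cmR R B).index = (cmR R B).index :=
      AddSubgroup.relIndex_mul_index le_sup_right
    rw [AddSubgroup.relIndex_sup_right, hB.exact] at h5
    rw [← AddSubgroup.index_eq_one]
    have h6 : 0 < (sp R X θ ⊔ cmR R B).index := Nat.pos_of_ne_zero AddSubgroup.index_ne_zero_of_finite
    by_contra h7
    have h8 : 2 ≤ (sp R X θ ⊔ cmR R B).index := by omega
    have h9 : (cmR R B).relIndex (sp R X θ) * 2 ≤ Nat.card B := by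
      rw [← h5]; exact Nat.mul_le_mul_left _ h8
    omega
  · exfalso
    have h5 := hB.atom D inf_le_left hD0 hDB
    have h6 : Nat.card B < (cmR R B).relIndex (cmR R D) * (cmR R D).index := by
      calc Nat.card B = K.relIndex B * Nat.card D := h2.symm
        _ < K.relIndex B * (cmR R D).index := Nat.mul_lt_mul_of_pos_left h5 hpos
        _ ≤ (cmR R B).relIndex (cmR R D) * (cmR R D).index := Nat.mul_le_mul_right _ (h1.trans h3)
    omega

/-- an atom which is trivial on `M_Q` lies in `O₂(Q)` -/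
theorem SwR.le_o2_of_le (S : SwR R θ T N) {Q B : Subgroup H} (hTQ : T ≤ Q) (hBN : B ≤ N)
    (hB : B ≤ kk S.bs (sp R Q θ)) : B ≤ o2 Q := by
  set K := kk S.bs (sp R Q θ) ⊓ Q with hK
  have hKθ : ∀ k ∈ K, k • θ + θ ∈ R := fun k hk => hk.1 θ (mem_sp R Q θ)
  have h1 : N ⊓ K ≤ o2 K := by
    refine le_o2 inf_le_right (S.N2.to_le inf_le_left) fun k hk => ?_
    rw [mem_normalizer_iff]
    intro n
    constructor
    · intro hn
      exact ⟨S.Nn k (hKθ k hk) n hn.1, K.mul_mem (K.mul_mem hk hn.2) (K.inv_mem hk)⟩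
    · intro hn
      have h2 := S.Nn k⁻¹ (hKθ _ (K.inv_mem hk)) _ hn.1
      have h3 := K.mul_mem (K.mul_mem (K.inv_mem hk) hn.2) (K.inv_mem (K.inv_mem hk))
      have e : k⁻¹ * (k * n * k⁻¹) * k⁻¹⁻¹ = n := by group
      rw [e] at h2 h3
      exact ⟨h2, h3⟩
  have h2 : Q ≤ normalizer (K : Set H) := by
    intro q hq
    rw [mem_normalizer_iff]
    intro k
    constructor
    · intro hk
      exact ⟨kk_norm S.bs hq hk.1, Q.mul_mem (Q.mul_mem hq hk.2) (Q.inv_mem hq)⟩
    · intro hk
      have h2 := kk_norm S.bs (Q.inv_mem hq) hk.1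
      have h3 := Q.mul_mem (Q.mul_mem (Q.inv_mem hq) hk.2) (Q.inv_mem (Q.inv_mem hq))
      have e : q⁻¹ * (q * k * q⁻¹) * q⁻¹⁻¹ = k := by group
      rw [e] at h2 h3
      exact ⟨h2, h3⟩
  have h3 : o2 K ≤ o2 Q := le_o2 ((o2_le K).trans inf_le_right) (isPGroup_o2 K)
    (h2.trans (normalizer_le_normalizer_o2 K))
  exact (le_inf hBN (le_inf hB ((hBN.trans S.NT).trans hTQ))).trans (h1.trans h3)

/-- **The minimal overgroup.** -/
structure MinX (R : AddSubgroup W) (θ : W) (T N : Subgroup H) (b : Bs H R) (X B : Subgroup H) : Prop where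
  TX : T ≤ X
  at_ : AtR R N B
  nt : ¬ B ≤ kk b (sp R X θ)
  min : ∀ Q : Subgroup H, T ≤ Q → Q ≤ X → Q ≠ X → ∀ C, AtR R N C → C ≤ kk b (sp R Q θ)

theorem SwR.exists_min (S : SwR R θ T N) {B : Subgroup H} (hB : AtR R N B) :
    ∃ X B' : Subgroup H, MinX R θ T N S.bs X B' := by
  have := S.finX
  have hfin : Finite (Subgroup H) := inferInstance
  obtain ⟨X, hX⟩ := (Set.toFinite {X : Subgroup H | T ≤ X ∧ ∃ C, AtR R N C ∧ ¬ C ≤ kk S.bs (sp R X θ)}).exists_minimal
    ⟨⊤, le_top, B, hB, fun h => by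
      rw [S.kk_top, le_bot_iff] at h
      have h4 := hB.four
      rw [h, card_bot] at h4
      omega⟩
  obtain ⟨hTX, C, hC, hCX⟩ := hX.prop
  refine ⟨X, C, hTX, hC, hCX, fun Q hTQ hQX hne C' hC' => ?_⟩
  by_contra hcon
  exact hne (le_antisymm hQX (hX.le_of_le (y := Q) ⟨hTQ, C', hC', hcon⟩ hQX))

end Cfsg.Agent.Omega.FOne.QR

end

section


/-!
# (F1), the K-route for `R` of any size: the vector `θ_n` (helper69)

* `exists_norm` : the product of an odd orbit;
* `min_sup_eq` : `X = ⟨B^X⟩ T`;
* `min_exists_vec` : `θ_s`, fixed by `X` modulo `R`, with `θ + θ_s ∈ [W_X, ⟨B^X⟩] R`;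
* `min_thmA` : `K_X` centralises `[W_X, ⟨B^X⟩]`.
-/

set_option autoImplicit false
set_option linter.unusedSectionVars false
set_option linter.style.haveILetI false

namespace Cfsg.Agent.Omega.FOne.QR

open Subgroup Cfsg Cfsg.Agent.ZN

universe u v

section norm

variable {G : Type*} [Group G] {M : Type*} [CommGroup M] [MulDistribMulAction G M]

/-- the product of an orbit of odd length -/
theorem exists_norm [Finite M] (sq : ∀ m : M, m * m = 1) {T L : Subgroup G}
    (hn : ∀ t ∈ T, ∀ k ∈ L, t * k * t⁻¹ ∈ L) (hodd : ¬ 2 ∣ T.relIndex L) {m : M} (hm : ∀ t ∈ T, t • m = m) :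
    ∃ s : M, (∀ k ∈ L, k • s = s) ∧ (∀ t ∈ T, t • s = s) ∧
      m * s ∈ Subgroup.closure {x | ∃ k ∈ L, x = (k • m) * m} := by
  classical
  haveI : Fintype (MulAction.orbit L m) := Fintype.ofFinite _
  have hcard : ¬ 2 ∣ Fintype.card (MulAction.orbit L m) := by
    intro h
    apply hodd
    have e : Fintype.card (MulAction.orbit L m) = (MulAction.stabilizer L m).index := by
      rw [← Nat.card_eq_fintype_card]
      exact Nat.card_congr (MulAction.orbitEquivQuotientStabilizer L m)
    have hle : T.subgroupOf L ≤ MulAction.stabilizer L m := by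
      intro x hx
      rw [MulAction.mem_stabilizer_iff]
      exact hm _ (mem_subgroupOf.mp hx)
    rw [e] at h
    exact h.trans (index_dvd_of_le hle)
  refine ⟨∏ x : MulAction.orbit L m, (x : M), ?_, ?_, ?_⟩
  · intro k hk
    rw [Finset.smul_prod']
    exact Fintype.prod_equiv (MulAction.toPerm (⟨k, hk⟩ : L)) _ _ (fun x => rfl)
  · intro t ht
    rw [Finset.smul_prod']
    have hmem : ∀ x ∈ MulAction.orbit L m, t • x ∈ MulAction.orbit L m := by
      rintro _ ⟨k, rfl⟩
      refine ⟨⟨t * k * t⁻¹, hn t ht k k.2⟩, ?_⟩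
      change (t * k * t⁻¹) • m = t • ((k : G) • m)
      rw [mul_smul, mul_smul, hm t⁻¹ (T.inv_mem ht)]
    have hinj : Function.Injective (fun x : MulAction.orbit L m =>
        (⟨t • (x : M), hmem x x.2⟩ : MulAction.orbit L m)) := by
      intro x x' h
      exact Subtype.ext (MulAction.injective t (congrArg Subtype.val h))
    exact Fintype.prod_bijective _ (Finite.injective_iff_bijective.mp hinj) _ _ (fun x => rfl)
  · have hpow : m ^ Fintype.card (MulAction.orbit L m) = m := by
      obtain ⟨j, hj⟩ := Nat.not_even_iff_odd.mp (fun h => hcard (even_iff_two_dvd.mp h))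
      rw [hj, pow_succ, pow_mul, sq_mul_self sq, one_pow, one_mul]
    have e : m * ∏ x : MulAction.orbit L m, (x : M) = ∏ x : MulAction.orbit L m, (x : M) * m := by
      rw [Finset.prod_mul_distrib, Finset.prod_const, Finset.card_univ, hpow, mul_comm]
    rw [e]
    refine Subgroup.prod_mem _ fun x _ => ?_
    obtain ⟨k, hk⟩ := x.2
    exact Subgroup.subset_closure ⟨k, k.2, by rw [← hk]; rfl⟩
where
  sq_mul_self {m : M} (sq : ∀ m : M, m * m = 1) : m ^ 2 = 1 := by rw [pow_two, sq]

end norm

variable {H : Type u} [Group H] {W : Type v} [AddCommGroup W] [DistribMulAction H W]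
  {R : AddSubgroup W} {θ : W} {T N X B : Subgroup H}

/-- `⟨B^X⟩` -/
def LX (X B : Subgroup H) : Subgroup H := Subgroup.closure {y | ∃ x ∈ X, ∃ c ∈ B, y = x * c * x⁻¹}

theorem LX_le (hBX : B ≤ X) : LX X B ≤ X := by
  rw [LX, closure_le]
  rintro _ ⟨x, hx, c, hc, rfl⟩
  exact X.mul_mem (X.mul_mem hx (hBX hc)) (X.inv_mem hx)

theorem le_LX : B ≤ LX X B := fun c hc => subset_closure ⟨1, X.one_mem, c, hc, by group⟩

theorem LX_conj {x g : H} (hx : x ∈ X) (hg : g ∈ LX X B) : x * g * x⁻¹ ∈ LX X B := by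
  have h1 : LX X B ≤ (LX X B).comap (MulAut.conj x).toMonoidHom := by
    conv_lhs => rw [LX]
    rw [closure_le]
    rintro _ ⟨y, hy, c, hc, rfl⟩
    refine subset_closure ⟨x * y, X.mul_mem hx hy, c, hc, ?_⟩
    change x * (y * c * y⁻¹) * x⁻¹ = x * y * c * (x * y)⁻¹
    group
  exact h1 hg

theorem le_normalizer_LX : X ≤ normalizer (LX X B : Set H) := by
  intro x hx
  rw [mem_normalizer_iff]
  intro g
  constructor
  · exact LX_conj hx
  · intro hg
    have := LX_conj (X.inv_mem hx) hg
    have e : x⁻¹ * (x * g * x⁻¹) * x⁻¹⁻¹ = g := by group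
    rwa [e] at this

section min

variable (S : SwR R θ T N) (M : MinX R θ T N S.bs X B)

include M

theorem min_BX : B ≤ X := (M.at_.BN.trans S.NT).trans M.TX

/-- (a) `X = ⟨B^X⟩ T` -/
theorem min_sup_eq : LX X B ⊔ T = X := by
  have := S.finX
  have hle : LX X B ⊔ T ≤ X := sup_le (LX_le (min_BX S M)) M.TX
  by_contra hne
  set Y := LX X B ⊔ T with hY
  have h1 : B ≤ kk S.bs (sp R Y θ) := M.min Y le_sup_right hle hne B M.at_
  have h2 : B ≤ o2 Y := S.le_o2_of_le le_sup_right M.at_.BN h1
  have h3 : o2 Y ⊓ LX X B ≤ o2 (LX X B) := by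
    refine le_o2 inf_le_right ((isPGroup_o2 Y).to_le inf_le_left) ?_
    intro l hl
    have h4 := le_normalizer_o2 Y ((le_sup_left : LX X B ≤ Y) hl)
    rw [mem_normalizer_iff] at h4 ⊢
    intro g
    constructor
    · intro hg
      exact ⟨(h4 g).1 hg.1, (LX X B).mul_mem ((LX X B).mul_mem hl hg.2) ((LX X B).inv_mem hl)⟩
    · intro hg
      have h5 := (LX X B).mul_mem ((LX X B).mul_mem ((LX X B).inv_mem hl) hg.2) hl
      have e : l⁻¹ * (l * g * l⁻¹) * l = g := by group
      rw [e] at h5
      exact ⟨(h4 g).2 hg.1, h5⟩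
  have h4 : o2 (LX X B) ≤ o2 X := le_o2 ((o2_le _).trans (LX_le (min_BX S M))) (isPGroup_o2 _)
    (le_normalizer_LX.trans (normalizer_le_normalizer_o2 _))
  have h5 : B ≤ o2 X := (le_inf h2 le_LX).trans (h3.trans h4)
  have h6 : o2 X ≤ T := o2_le_of_sylow M.TX S.T2 (S.sylX M.TX)
  apply M.nt
  intro c hc
  rw [mem_kk_sp]
  intro x hx
  have h7 : x⁻¹ * c * x ∈ o2 X := by
    have h8 := (mem_normalizer_iff.1 (le_normalizer_o2 X (X.inv_mem hx)) c).1 (h5 hc)
    rwa [inv_inv] at h8
  have h8 := S.Tθ _ (h6 h7)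
  have e : c • x • θ + x • θ = x • ((x⁻¹ * c * x) • θ + θ) := by
    rw [smul_add, mul_smul, mul_smul, smul_inv_smul]
  rw [e, S.fixR x _ h8]
  exact h8

/-- the frame of THEOREM A -/
theorem min_dat (hML : ML.Final.MLK.{u, v}) : ThmR.Dat X T N B R (sp R X θ) θ := by
  have hd := (S.dich hML M.TX M.at_).resolve_left M.nt
  refine
    { two := S.two
      fixR := S.fixR
      faith := S.faith
      TX := M.TX
      T2 := S.T2
      syl := S.sylX M.TX
      BO := M.at_.BN
      BX := (min_BX S M)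
      sqB := M.at_.sq
      quad := fun b hb c hc w => M.at_.quad c hc b hb w
      no := fun E hE hsq => S.no hML hE hsq
      ex := M.at_.exact.symm
      min := fun E hE hne hex => ?_
      RV := le_sp R X θ
      XV := fun x hx v hv => smul_mem_sp S.bs hx hv
      gen := fun U hR hU => sp_le hR hU
      lamV := mem_sp R X θ
      Tlam := S.Tθ
      nO := fun h hh o ho => S.Nn h hh o ho
      cover := fun w => ?_ }
  · by_contra hcon
    have := M.at_.atom E hE hne hcon
    exact absurd hex (Nat.ne_of_lt this)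
  · have h1 : w ∈ sp R X θ ⊔ cmR R B := by rw [hd.2]; exact AddSubgroup.mem_top w
    obtain ⟨v, hv, c, hc, e⟩ := AddSubgroup.mem_sup.1 h1
    refine ⟨v, hv, ?_⟩
    have e2 : w + v = c := by
      rw [← e]
      calc v + c + v = (v + v) + c := by abel
        _ = c := by rw [S.two, zero_add]
    rw [e2]
    exact hc

/-- **THEOREM A** for the minimal overgroup -/
theorem min_thmA (hML : ML.Final.MLK.{u, v}) {k l : H} {w : W} (hk : k ∈ X) (hkK : k ∈ kk S.bs (sp R X θ))
    (hl : l ∈ LX X B) (hw : w ∈ sp R X θ) : k • (l • w + w) = l • w + w := by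
  have := S.finX
  have := S.finW
  have h1 := (min_dat S M hML).main M.at_.four l hl k hk (fun v hv => hkK v hv) w hw
  have h2 : k • (l • w + w) + (l • w + w) = 0 := h1
  have h3 := eq_neg_of_add_eq_zero_left h2
  rw [h3]
  exact neg_eq_of_add_eq_zero_left (S.two _)

/-- (b) : the vector `θ_s` -/
theorem min_exists_vec : ∃ s : W, s ∈ sp R X θ ∧ (∀ x ∈ X, x • s + s ∈ R) ∧
    θ + s ∈ AddSubgroup.closure ((R : Set W) ∪ {w | ∃ k ∈ LX X B, w = k • θ + θ}) := by
  classical
  have := S.finX
  have := S.finW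
  letI := act (X := H) (R := R) S.fixR
  have hfin : Finite (MR R) := Finite.of_surjective (mkH R) (mkH_surj R)
  have hsm : ∀ (x : H) (w : W), x • mk R w = mk R (x • w) := fun _ _ => rfl
  have hT : T ≤ normalizer (LX X B : Set H) := M.TX.trans le_normalizer_LX
  have hodd : ¬ 2 ∣ T.relIndex (LX X B) := by
    rw [← ML.MinFrame.relIndex_sup_comm hT, min_sup_eq S M]
    exact S.sylX M.TX
  obtain ⟨s, hsL, hsT, hs⟩ := exists_norm (G := H) (M := MR R) (fun m => by
    obtain ⟨w, rfl⟩ := mk_surj m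
    rw [← mk_add, S.two, mk_zero]) (T := T) (L := LX X B) (fun t ht k hk => LX_conj (M.TX ht) hk) hodd
    (m := mk R θ) (fun t ht => by
      rw [hsm, mk_eq' S.two]
      exact S.Tθ t ht)
  obtain ⟨w, rfl⟩ := mk_surj s
  have hcl : θ + w ∈ AddSubgroup.closure ((R : Set W) ∪ {w | ∃ k ∈ LX X B, w = k • θ + θ}) := by
    set C := AddSubgroup.closure ((R : Set W) ∪ {w | ∃ k ∈ LX X B, w = k • θ + θ}) with hC
    have hRC : R ≤ C := fun r hr => AddSubgroup.subset_closure (Or.inl hr)
    have h1 : Subgroup.closure {x : MR R | ∃ k ∈ LX X B, x = (k • mk R θ) * mk R θ} ≤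
        (AddSubgroup.toSubgroup C).map (mkH R) := by
      rw [closure_le]
      rintro _ ⟨k, hk, rfl⟩
      have h2 : k • θ + θ ∈ C := AddSubgroup.subset_closure (Or.inr ⟨k, hk, rfl⟩)
      exact ⟨Multiplicative.ofAdd (k • θ + θ), h2, rfl⟩
    obtain ⟨c, hc, e⟩ := h1 hs
    have e' : mk R (Multiplicative.toAdd c) = mk R (θ + w) := e
    rw [mk_eq' S.two] at e'
    have h2 := C.add_mem (hRC e') (show Multiplicative.toAdd c ∈ C from hc)
    have e2 : Multiplicative.toAdd c + (θ + w) + Multiplicative.toAdd c = θ + w := by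
      have := S.two (Multiplicative.toAdd c)
      calc Multiplicative.toAdd c + (θ + w) + Multiplicative.toAdd c =
          (Multiplicative.toAdd c + Multiplicative.toAdd c) + (θ + w) := by abel
        _ = _ := by rw [this, zero_add]
    rwa [e2] at h2
  refine ⟨w, ?_, ?_, hcl⟩
  · have h1 : AddSubgroup.closure ((R : Set W) ∪ {w | ∃ k ∈ LX X B, w = k • θ + θ}) ≤ sp R X θ := by
      rw [AddSubgroup.closure_le]
      rintro v (hv | ⟨k, hk, rfl⟩)
      · exact le_sp R X θ hv
      · exact (sp R X θ).add_mem (smul_mem_sp' R θ (LX_le (min_BX S M) hk)) (mem_sp R X θ)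
    have h2 := (sp R X θ).add_mem (mem_sp R X θ) (h1 hcl)
    rwa [← add_assoc, S.two, zero_add] at h2
  · have hfix : ∀ x ∈ LX X B ⊔ T, x • mk R w = mk R w := by
      have h1 : LX X B ⊔ T ≤ MulAction.stabilizer H (mk R w) := sup_le (fun k hk => hsL k hk) (fun t ht => hsT t ht)
      exact fun x hx => h1 hx
    intro x hx
    rw [← min_sup_eq S M] at hx
    have h1 := hfix x hx
    rwa [hsm, mk_eq' S.two] at h1

end min

end Cfsg.Agent.Omega.FOne.QR

end

section


/-!
# (F1), the K-route for `R` of any size: the section of the minimal overgroup (helper69)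

* `stb R θ` : the stabiliser of `θ` modulo `R`; `StR R θ T` : a situation;
* `MinX.sec` : the minimal overgroup gives the situation `(X / K_X, W_n, θ_n)`;
* **`StR.exists_fs`** : a situation with an atom of order at least 4 in `O₂(C(θ))` gives `FsR` with (LA).
-/

set_option autoImplicit false
set_option linter.unusedSectionVars false
set_option linter.style.haveILetI false

namespace Cfsg.Agent.Omega.FOne.QR

open Subgroup Cfsg Cfsg.Agent.ZN

universe u v

section defs

variable {X : Type u} [Group X] {W : Type v} [AddCommGroup W] [DistribMulAction X W]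

/-- the stabiliser of `θ` modulo `R` -/
def stb (R : AddSubgroup W) (θ : W) : Subgroup X := Subgroup.closure {x | x • θ + θ ∈ R}

theorem mem_stb {R : AddSubgroup W} (b : Bs X R) {θ : W} {x : X} : x ∈ (stb R θ : Subgroup X) ↔ x • θ + θ ∈ R := by
  constructor
  · intro hx
    let Z : Subgroup X :=
      { carrier := {x | x • θ + θ ∈ R}
        one_mem' := by
          change (1 : X) • θ + θ ∈ R
          rw [one_smul, b.two]; exact R.zero_mem
        mul_mem' := by
          intro g h hg hh
          change (g * h) • θ + θ ∈ R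
          have e : (g * h) • θ + θ = g • (h • θ + θ) + (g • θ + θ) := by
            have h1 : g • θ + g • θ = 0 := b.two _
            rw [mul_smul, smul_add]
            calc g • h • θ + θ = g • h • θ + (g • θ + g • θ) + θ := by rw [h1, add_zero]
              _ = _ := by abel
          rw [e, b.fixR g _ hh]
          exact R.add_mem hh hg
        inv_mem' := by
          intro h hh
          change h⁻¹ • θ + θ ∈ R
          have e : h⁻¹ • θ + θ = h⁻¹ • (h • θ + θ) := by
            rw [smul_add, inv_smul_smul, add_comm]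
          rw [e, b.fixR _ _ hh]
          exact hh }
    have h1 : (stb R θ : Subgroup X) ≤ Z := by
      rw [stb, closure_le]
      exact fun x hx => hx
    exact h1 hx
  · exact fun hx => subset_closure hx

/-- A situation. -/
structure StR (R : AddSubgroup W) (θ : W) (T : Subgroup X) : Prop where
  known : IsKGroupWith IsKnownSimple' X
  finX : Finite X
  finW : Finite W
  two : ∀ w : W, w + w = 0
  fixR : ∀ x : X, ∀ r ∈ R, x • r = r
  faith : ∀ x : X, (∀ w : W, x • w + w ∈ R) → x = 1
  T2 : IsPGroup 2 T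
  syl : ¬ 2 ∣ T.index
  fixT : ∀ w : W, (∀ t ∈ T, t • w = w) → w ∈ R
  θR : θ ∉ R
  Tθ : ∀ t ∈ T, t • θ + θ ∈ R
  gen : ∀ U : AddSubgroup W, R ≤ U → (∀ x : X, x • θ ∈ U) → U = ⊤

theorem SwR.st {R : AddSubgroup W} {θ : W} {T N : Subgroup X} (S : SwR R θ T N) : StR R θ T :=
  ⟨S.known, S.finX, S.finW, S.two, S.fixR, S.faith, S.T2, S.syl, S.fixT, S.θR, S.Tθ, S.gen⟩

theorem StR.bs {R : AddSubgroup W} {θ : W} {T : Subgroup X} (S : StR R θ T) : Bs X R := ⟨S.two, S.fixR⟩

/-- the situation with `N = O₂(C(θ))` -/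
theorem StR.sw {R : AddSubgroup W} {θ : W} {T : Subgroup X} (S : StR R θ T) : SwR R θ T (o2 (stb R θ)) where
  known := S.known
  finX := S.finX
  finW := S.finW
  two := S.two
  fixR := S.fixR
  faith := S.faith
  T2 := S.T2
  syl := S.syl
  fixT := S.fixT
  θR := S.θR
  Tθ := S.Tθ
  gen := S.gen
  N2 := isPGroup_o2 _
  Nθ := fun n hn => (mem_stb S.bs).1 (o2_le _ hn)
  Nn := fun x hx n hn => (mem_normalizer_iff.1 (le_normalizer_o2 _ ((mem_stb S.bs).2 hx)) n).1 hn

/-- `N ≤ O₂(C(θ))` -/
theorem SwR.N_le {R : AddSubgroup W} {θ : W} {T N : Subgroup X} (S : SwR R θ T N) : N ≤ o2 (stb R θ) := by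
  refine le_o2 (fun n hn => (mem_stb S.bs).2 (S.Nθ n hn)) S.N2 fun x hx => ?_
  have hx' := (mem_stb S.bs).1 hx
  have hxi := (mem_stb S.bs).1 ((stb R θ).inv_mem hx)
  rw [mem_normalizer_iff]
  intro n
  constructor
  · exact S.Nn x hx' n
  · intro hn
    have := S.Nn x⁻¹ hxi _ hn
    have e : x⁻¹ * (x * n * x⁻¹) * x⁻¹⁻¹ = n := by group
    rwa [e] at this

/-- every atom of `O₂(C(θ))` is in `O₂(Q)`, `T ≤ Q < X` -/
def LaR (R : AddSubgroup W) (θ : W) (T : Subgroup X) : Prop :=
  ∀ Z : Subgroup X, (∀ x, x ∈ Z ↔ x • θ + θ ∈ R) → ∀ B₁ : Subgroup X, AtR R (o2 Z) B₁ →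
    ∀ Q : Subgroup X, T ≤ Q → Q ≠ ⊤ → B₁ ≤ o2 Q

end defs

variable {H : Type u} [Group H] {W : Type v} [AddCommGroup W] [DistribMulAction H W]
  {R : AddSubgroup W} {θ : W} {T N X B : Subgroup H}

/-- **The section of the minimal overgroup.** -/
theorem min_sec (hML : ML.Final.MLK.{u, v}) (S : SwR R θ T N) (M : MinX R θ T N S.bs X B) :
    ∃ (X' : Type u) (_ : Group X') (W' : Type v) (_ : AddCommGroup W') (_ : DistribMulAction X' W')
      (R' : AddSubgroup W') (θ' : W') (T' B' : Subgroup X'), StR R' θ' T' ∧ AtR R' (o2 (stb R' θ')) B' ∧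
        Nat.card X' ≤ Nat.card X := by
  classical
  have hfX := S.finX
  have hfW := S.finW
  have b := S.bs
  have two := S.two
  set K := kk S.bs (sp R X θ) with hK
  obtain ⟨s, hsU, hsX, hscl⟩ := min_exists_vec S M
  set θn := θ + s with hθn
  have hθ : θ = θn + s := by rw [hθn, add_assoc, two, add_zero]
  set U := sp R X θn with hU
  have hBX := min_BX S M
  -- `K ∩ X` fixes `U`
  have hKX : ∀ x ∈ X, ∀ k ∈ X, k ∈ K → x * k * x⁻¹ ∈ K := fun x hx k _ hk => kk_norm S.bs hx hk
  have hfix1 : ∀ k ∈ X, k ∈ K → k • θn = θn := by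
    intro k hk hkK
    let C : AddSubgroup W :=
      { carrier := {w | k • w = w}
        zero_mem' := smul_zero k
        add_mem' := by
          intro v w hv hw
          change k • (v + w) = v + w
          rw [smul_add, hv, hw]
        neg_mem' := by
          intro w hw
          change k • (-w) = -w
          rw [smul_neg, hw] }
    have h1 : AddSubgroup.closure ((R : Set W) ∪ {w | ∃ l ∈ LX X B, w = l • θ + θ}) ≤ C := by
      rw [AddSubgroup.closure_le]
      rintro w (hw | ⟨l, hl, rfl⟩)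
      · exact S.fixR k w hw
      · exact min_thmA S M hML hk hkK hl (mem_sp R X θ)
    exact h1 hscl
  have hfix : ∀ k ∈ X, k ∈ K → ∀ u ∈ U, k • u = u := by
    intro k hk hkK u hu
    let C : AddSubgroup W :=
      { carrier := {w | k • w = w}
        zero_mem' := smul_zero k
        add_mem' := by
          intro v w hv hw
          change k • (v + w) = v + w
          rw [smul_add, hv, hw]
        neg_mem' := by
          intro w hw
          change k • (-w) = -w
          rw [smul_neg, hw] }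
    have h1 : U ≤ C := by
      refine sp_le (fun r hr => S.fixR k r hr) fun x hx => ?_
      change k • x • θn = x • θn
      have h2 := hKX x⁻¹ (X.inv_mem hx) k hk hkK
      rw [inv_inv] at h2
      have h3 := hfix1 _ (X.mul_mem (X.mul_mem (X.inv_mem hx) hk) hx) h2
      have e : k • x • θn = x • ((x⁻¹ * k * x) • θn) := by
        rw [mul_smul, mul_smul, smul_inv_smul]
      rw [e, h3]
    exact h1 hu
  -- the kernel on `U / R`
  have hker : ∀ x ∈ X, (∀ u ∈ U, x • u + u ∈ R) → x ∈ K := by
    intro x hx hxU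
    rw [hK, mem_kk_sp]
    intro y hy
    have h1 := hxU _ (smul_mem_sp' R θn hy)
    have h2 := hsX _ (X.mul_mem hx hy)
    have h3 := hsX _ hy
    have e : x • y • θ + y • θ = (x • y • θn + y • θn) + (((x * y) • s + s) + (y • s + s)) := by
      have h4 := two s
      rw [hθ, smul_add, smul_add, mul_smul]
      calc x • y • θn + x • y • s + (y • θn + y • s) =
          x • y • θn + x • y • s + (y • θn + y • s) + 0 := by rw [add_zero]
        _ = x • y • θn + x • y • s + (y • θn + y • s) + (s + s) := by rw [h4]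
        _ = _ := by abel
    rw [e]
    exact R.add_mem h1 (R.add_mem h2 h3)
  have hstab : ∀ x ∈ X, (x • θn + θn ∈ R ↔ x • θ + θ ∈ R) := by
    intro x hx
    have h2 := hsX x hx
    have e : x • θ + θ = (x • θn + θn) + (x • s + s) := by
      conv_lhs => rw [hθ]
      rw [smul_add]; abel
    have e2 : x • θn + θn = (x • θ + θ) + (x • s + s) := by
      rw [hθn, smul_add]; abel
    constructor
    · intro h; rw [e]; exact R.add_mem h h2
    · intro h; rw [e2]; exact R.add_mem h h2
  have hθnR : θn ∉ R := by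
    intro h
    apply M.nt
    intro c hc
    have hXθ : ∀ x ∈ X, x • θ + θ ∈ R := by
      intro x hx
      rw [← hstab x hx, S.fixR x _ h, two]
      exact R.zero_mem
    rw [mem_kk_sp]
    intro x hx
    have h1 := hXθ _ (X.mul_mem (hBX hc) hx)
    have h2 := hXθ _ hx
    have e : c • x • θ + x • θ = ((c * x) • θ + θ) + (x • θ + θ) := by
      have h4 := two θ
      rw [mul_smul]
      calc c • x • θ + x • θ = c • x • θ + x • θ + (θ + θ) := by rw [h4, add_zero]
        _ = _ := by abel
    rw [e]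
    exact R.add_mem h1 h2
  -- `W = U + C(B)`
  have hd := (S.dich hML M.TX M.at_).resolve_left M.nt
  have hsup : U ⊔ cmR R B = ⊤ := by
    rw [eq_top_iff, ← hd.2]
    refine sup_le (sp_le ((le_sp R X θn).trans le_sup_left) fun x hx => ?_) le_sup_right
    have h1 : x • θn ∈ U ⊔ cmR R B := (le_sup_left : U ≤ U ⊔ cmR R B) (smul_mem_sp' R θn hx)
    have h2 : x • s ∈ U ⊔ cmR R B := by
      have h3 : s ∈ cmR R B := fun c hc => hsX c (hBX hc)
      have h4 : x • s + s ∈ U := le_sp R X θn (hsX x hx)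
      have h5 := (U ⊔ cmR R B).add_mem ((le_sup_left : U ≤ U ⊔ cmR R B) h4) ((le_sup_right : _ ≤ U ⊔ cmR R B) h3)
      rwa [add_assoc, two, add_zero] at h5
    have e : x • θ = x • θn + x • s := by
      conv_lhs => rw [hθ]
      rw [smul_add]
    rw [e]
    exact (U ⊔ cmR R B).add_mem h1 h2
  have hidx : ∀ C ≤ B, (cmR R C).relIndex U = (cmR R C).index := by
    intro C hC
    have h1 : U ⊔ cmR R C = ⊤ := by
      rw [eq_top_iff, ← hsup]
      exact sup_le le_sup_left ((cmR_anti hC).trans le_sup_right)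
    have h2 : (cmR R C).relIndex (U ⊔ cmR R C) = (cmR R C).relIndex U := AddSubgroup.relIndex_sup_right _ _
    rw [← h2, h1, AddSubgroup.relIndex_top_right]
  -- the action of `X` on `U`
  have hUX : ∀ x ∈ X, ∀ u ∈ U, x • u ∈ U := fun x hx u hu => smul_mem_sp S.bs hx hu
  letI actU : DistribMulAction X U :=
    { smul := fun x u => ⟨(x : H) • (u : W), hUX x x.2 u u.2⟩
      one_smul := fun u => Subtype.ext (one_smul H (u : W))
      mul_smul := fun x y u => Subtype.ext (mul_smul (x : H) (y : H) (u : W))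
      smul_zero := fun x => Subtype.ext (smul_zero (x : H))
      smul_add := fun x u v => Subtype.ext (smul_add (x : H) (u : W) (v : W)) }
  have hsm : ∀ (x : X) (u : U), ((x • u : U) : W) = (x : H) • (u : W) := fun _ _ => rfl
  let K' : Subgroup X := K.subgroupOf X
  haveI hKn : K'.Normal := ⟨fun k hk x => hKX x x.2 k k.2 hk⟩
  have hle : K' ≤ (DistribMulAction.toAddMonoidEnd X U).ker := by
    intro k hk
    rw [MonoidHom.mem_ker]
    ext u
    exact hfix k k.2 hk u u.2
  letI actQ : DistribMulAction (X ⧸ K') U :=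
    DistribMulAction.compHom U (QuotientGroup.lift K' (DistribMulAction.toAddMonoidEnd X U) hle)
  let π : X →* X ⧸ K' := QuotientGroup.mk' K'
  have hπ : Function.Surjective π := QuotientGroup.mk'_surjective K'
  have hsq : ∀ (x : X) (u : U), π x • u = x • u := fun _ _ => rfl
  have hcoe : ∀ (x : X) (u : U), ((π x • u : U) : W) = (x : H) • (u : W) := fun _ _ => rfl
  have hπ1 : ∀ x : X, π x = 1 ↔ (x : H) ∈ K := fun x => QuotientGroup.eq_one_iff x
  -- the data
  let R' : AddSubgroup U := R.addSubgroupOf U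
  have hR' : ∀ u : U, u ∈ R' ↔ (u : W) ∈ R := fun _ => Iff.rfl
  let θ' : U := ⟨θn, mem_sp R X θn⟩
  let T' : Subgroup (X ⧸ K') := (T.subgroupOf X).map π
  let B' : Subgroup (X ⧸ K') := (B.subgroupOf X).map π
  have hinjB : ∀ x : X, (x : H) ∈ B → π x = 1 → x = 1 := by
    intro x hx h1
    have h2 : (x : H) ∈ B ⊓ K := ⟨hx, (hπ1 x).1 h1⟩
    rw [hd.1, mem_bot] at h2
    exact Subtype.ext h2
  have hst : StR R' θ' T' := by
    refine
      { known := ?_
        finX := inferInstance
        finW := inferInstance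
        two := fun w => Subtype.ext (two w)
        fixR := ?_
        faith := ?_
        T2 := (S.T2.of_equiv (subgroupOfEquivOfLe M.TX).symm).map π
        syl := ?_
        fixT := ?_
        θR := hθnR
        Tθ := ?_
        gen := ?_ }
    · exact ML.Final.kgroup_of_surj (ML.Final.kgroup_of_surj S.known X (MonoidHom.id X) fun x => ⟨x, rfl⟩)
        (⊤ : Subgroup X) (π.comp (⊤ : Subgroup X).subtype) (by
          intro q
          obtain ⟨x, rfl⟩ := hπ q
          exact ⟨⟨x, mem_top x⟩, rfl⟩)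
    · intro q r hr
      obtain ⟨x, rfl⟩ := hπ q
      exact Subtype.ext (S.fixR x _ hr)
    · intro q hq
      obtain ⟨x, rfl⟩ := hπ q
      rw [hπ1]
      exact hker x x.2 fun u hu => hq ⟨u, hu⟩
    · intro h2
      have h3 : (T.subgroupOf X).index = T.relIndex X := rfl
      have h4 := index_map_dvd (T.subgroupOf X) hπ
      rw [h3] at h4
      exact S.sylX M.TX (h2.trans h4)
    · intro w hw
      refine S.fixT w fun t ht => ?_
      have h1 := hw (π ⟨t, M.TX ht⟩) ⟨⟨t, M.TX ht⟩, ht, rfl⟩
      exact congrArg Subtype.val h1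
    · rintro _ ⟨t, ht, rfl⟩
      have h1 := (hstab t t.2).2 (S.Tθ t ht)
      exact h1
    · intro V hV hVx
      rw [eq_top_iff]
      rintro ⟨u, hu⟩ -
      have h1 : U ≤ V.map U.subtype := by
        refine sp_le ?_ ?_
        · intro r hr
          exact ⟨⟨r, le_sp R X θn hr⟩, hV hr, rfl⟩
        · intro x hx
          exact ⟨_, hVx (π ⟨x, hx⟩), rfl⟩
      obtain ⟨v, hv, e⟩ := h1 hu
      have : v = ⟨u, hu⟩ := Subtype.ext e
      rwa [this] at hv
  have hcm : ∀ C : Subgroup H, C ≤ X → cmR R' ((C.subgroupOf X).map π) = (cmR R C).addSubgroupOf U := by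
    intro C hC
    ext u
    rw [AddSubgroup.mem_addSubgroupOf]
    constructor
    · intro hu c hc
      exact hu (π ⟨c, hC hc⟩) ⟨⟨c, hC hc⟩, hc, rfl⟩
    · rintro hu _ ⟨c, hc, rfl⟩
      exact hu c hc
  have hcard : ∀ C : Subgroup H, C ≤ B → Nat.card ((C.subgroupOf X).map π : Subgroup (X ⧸ K')) = Nat.card C := by
    intro C hC
    have h1 : Function.Injective (π.subgroupMap (C.subgroupOf X)) := by
      rw [injective_iff_map_eq_one]
      rintro ⟨x, hx⟩ h1
      have h2 : π x = 1 := congrArg Subtype.val h1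
      exact Subtype.ext (hinjB x (hC hx) h2)
    rw [← Nat.card_congr (Equiv.ofBijective _ ⟨h1, π.subgroupMap_surjective _⟩)]
    exact Nat.card_congr (subgroupOfEquivOfLe (hC.trans hBX)).toEquiv
  have hat : AtR R' (o2 (stb R' θ')) B' := by
    refine
      { BN := ?_
        sq := ?_
        quad := ?_
        four := ?_
        exact := ?_
        atom := ?_ }
    · -- the image of `N ∩ X`
      have h1 : ((N ⊓ X).subgroupOf X).map π ≤ o2 (stb R' θ') := by
        refine le_o2 ?_ ?_ ?_
        · rintro _ ⟨n, hn, rfl⟩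
          rw [mem_stb hst.bs]
          exact (hstab n n.2).2 (S.Nθ n hn.1)
        · exact ((S.N2.to_le inf_le_left).of_equiv (subgroupOfEquivOfLe inf_le_right).symm).map π
        · intro q hq
          rw [mem_stb hst.bs] at hq
          obtain ⟨x, rfl⟩ := hπ q
          have hx1 : (x : H) • θ + θ ∈ R := (hstab x x.2).1 hq
          have hx2 : ((x⁻¹ : X) : H) • θ + θ ∈ R := by
            have h2 := (stb R θ).inv_mem ((mem_stb S.bs).2 hx1)
            exact (mem_stb S.bs).1 h2
          rw [mem_normalizer_iff]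
          intro g
          constructor
          · rintro ⟨n, hn, rfl⟩
            refine ⟨x * n * x⁻¹, ⟨S.Nn x hx1 n hn.1, (x * n * x⁻¹).2⟩, ?_⟩
            rw [map_mul, map_mul, map_inv]
          · rintro ⟨n, hn, e⟩
            refine ⟨x⁻¹ * n * x, ⟨?_, (x⁻¹ * n * x).2⟩, ?_⟩
            · have h2 := S.Nn _ hx2 n hn.1
              have e2 : ((x⁻¹ * n * x : X) : H) = ((x⁻¹ : X) : H) * n * ((x⁻¹ : X) : H)⁻¹ := by
                simp
              change ((x⁻¹ * n * x : X) : H) ∈ N
              rw [e2]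
              exact h2
            · rw [map_mul, map_mul, map_inv, e]
              group
      refine le_trans ?_ h1
      refine Subgroup.map_mono ?_
      intro x hx
      exact ⟨M.at_.BN hx, x.2⟩
    · rintro _ ⟨x, hx, rfl⟩
      rw [← map_mul]
      have h1 : x * x = 1 := Subtype.ext (M.at_.sq x hx)
      rw [h1, map_one]
    · rintro _ ⟨x, hx, rfl⟩ _ ⟨y, hy, rfl⟩ w
      exact M.at_.quad x hx y hy w
    · rw [hcard B le_rfl]
      exact M.at_.four
    · rw [hcm B hBX, hcard B le_rfl]
      change (cmR R B).relIndex U = _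
      rw [hidx B le_rfl, M.at_.exact]
    · intro C hC hC1 hCB
      -- the preimage of `C` in `B`
      let C₀ : Subgroup H := (((C.comap π) ⊓ (B.subgroupOf X))).map X.subtype
      have hC₀B : C₀ ≤ B := by
        rintro _ ⟨x, hx, rfl⟩
        exact hx.2
      have hC₀ : (C₀.subgroupOf X).map π = C := by
        apply le_antisymm
        · rintro _ ⟨x, hx, rfl⟩
          obtain ⟨y, hy, e⟩ := hx
          have : y = x := Subtype.ext e
          rw [← this]
          exact hy.1
        · intro c hc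
          obtain ⟨x, hx, e⟩ := hC hc
          refine ⟨x, ⟨x, ⟨?_, hx⟩, rfl⟩, e⟩
          change π x ∈ C
          rw [e]; exact hc
      rw [← hC₀, hcard C₀ hC₀B, hcm C₀ (hC₀B.trans hBX)]
      change _ < (cmR R C₀).relIndex U
      rw [hidx C₀ hC₀B]
      refine M.at_.atom C₀ hC₀B ?_ ?_
      · intro h
        apply hC1
        rw [← hC₀, h, eq_bot_iff]
        rintro _ ⟨x, hx, rfl⟩
        have h2 : x = 1 := Subtype.ext (mem_bot.1 (show (x : H) ∈ (⊥ : Subgroup H) from hx))
        rw [mem_bot, h2, map_one]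
      · intro h
        apply hCB
        rw [← hC₀, h]
  refine ⟨X ⧸ K', inferInstance, U, inferInstance, actQ, R', θ', T', B', hst, hat, ?_⟩
  exact Nat.card_le_card_of_surjective π hπ

/-- **A situation with an atom of order at least 4 in `O₂(C(θ))` gives the faithful section with (LA).** -/
theorem exists_fs (hML : ML.Final.MLK.{u, v}) (n : ℕ) : ∀ (H : Type u) [Group H] (W : Type v) [AddCommGroup W]
    [DistribMulAction H W] (R : AddSubgroup W) (θ : W) (T B : Subgroup H), Nat.card H = n → StR R θ T →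
    AtR R (o2 (stb R θ)) B →
    ∃ (X' : Type u) (_ : Group X') (W' : Type v) (_ : AddCommGroup W') (_ : DistribMulAction X' W')
      (R' : AddSubgroup W') (θ' : W') (T' B' : Subgroup X'), FsR R' θ' T' B' ∧ LaR R' θ' T' := by
  induction n using Nat.strong_induction_on with
  | _ n ih =>
    intro H _ W _ _ R θ T B hn St hB
    classical
    have hfX := St.finX
    have S := St.sw
    by_cases hall : ∀ Q : Subgroup H, T ≤ Q → Q ≠ ⊤ → ∀ C, AtR R (o2 (stb R θ)) C → C ≤ kk St.bs (sp R Q θ)
    · have hlow : ∀ C, AtR R (o2 (stb R θ)) C → ∀ Q : Subgroup H, T ≤ Q → Q ≠ ⊤ → C ≤ o2 Q :=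
        fun C hC Q hTQ hQ => S.le_o2_of_le hTQ hC.BN (hall Q hTQ hQ C hC)
      refine ⟨H, inferInstance, W, inferInstance, inferInstance, R, θ, T, B, ?_, ?_⟩
      · exact
          { known := St.known, finX := St.finX, finW := St.finW, two := St.two, fixR := St.fixR, faith := St.faith
            T2 := St.T2, syl := St.syl, fixT := St.fixT, θR := St.θR, Tθ := St.Tθ, gen := St.gen
            BT := hB.BN.trans S.NT, sq := hB.sq, quad := hB.quad, four := hB.four, exact := hB.exact
            atom := hB.atom, low := hlow B hB }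
      · intro Z hZ B₁ hB₁ Q hTQ hQ
        have e : Z = stb R θ := by
          ext x
          rw [hZ, mem_stb St.bs]
        rw [e] at hB₁
        exact hlow B₁ hB₁ Q hTQ hQ
    · push Not at hall
      obtain ⟨Q, hTQ, hQ, C, hC, hCQ⟩ := hall
      have hfin : Finite (Subgroup H) := inferInstance
      obtain ⟨X, hX⟩ := (Set.toFinite {X : Subgroup H | T ≤ X ∧ X ≠ ⊤ ∧
        ∃ C, AtR R (o2 (stb R θ)) C ∧ ¬ C ≤ kk St.bs (sp R X θ)}).exists_minimal ⟨Q, hTQ, hQ, C, hC, hCQ⟩
      obtain ⟨hTX, hXt, C', hC', hCX⟩ := hX.prop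
      have M : MinX R θ T (o2 (stb R θ)) S.bs X C' := by
        refine ⟨hTX, hC', hCX, fun Y hTY hYX hne D hD => ?_⟩
        by_contra hcon
        refine hne (le_antisymm hYX (hX.le_of_le (y := Y) ⟨hTY, ?_, D, hD, hcon⟩ hYX))
        intro h
        rw [h, top_le_iff] at hYX
        exact hXt hYX
      obtain ⟨X', i1, W', i2, i3, R', θ', T', B', h1, h2, h3⟩ := min_sec hML S M
      have hlt : Nat.card X < Nat.card H := by
        have h4 := X.card_mul_index
        have h5 : X.index ≠ 1 := fun h => hXt (index_eq_one.1 h)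
        have h6 : X.index ≠ 0 := index_ne_zero_of_finite
        have h7 : 0 < Nat.card X := Nat.card_pos
        have h8 : 2 ≤ X.index := by omega
        have h9 : Nat.card X * 2 ≤ Nat.card H := by rw [← h4]; exact Nat.mul_le_mul_left _ h8
        omega
      exact ih (Nat.card X') (by omega) X' W' R' θ' T' B' rfl h1 h2

/-- the same from `SwR` -/
theorem SwR.exists_fs (hML : ML.Final.MLK.{u, v}) (S : SwR R θ T N) (hB : AtR R N B) :
    ∃ (X' : Type u) (_ : Group X') (W' : Type v) (_ : AddCommGroup W') (_ : DistribMulAction X' W')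
      (R' : AddSubgroup W') (θ' : W') (T' B' : Subgroup X'), FsR R' θ' T' B' ∧ LaR R' θ' T' :=
  QR.exists_fs hML _ H W R θ T B rfl S.st
    ⟨hB.BN.trans S.N_le, hB.sq, hB.quad, hB.four, hB.exact, hB.atom⟩

end Cfsg.Agent.Omega.FOne.QR

end

section


/-!
# From an exact group on `W` to an atom of `W / R` (helper763 #23689 (2)-(4), typed by helper851)

`SwR R θ T N`; `E ≤ N` is elementary abelian, quadratic and exact on `W` (`|W : C_W(E)| ≤ |E|`, `|C| < |W : C_W(C)|` for
`1 < C < E`), `|E| ≥ 4`, and an element of `E` which normalises a line `R + ⟨x • θ⟩` centralises it (`m1`).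

* `SwR.o2_bot` : no nontrivial normal 2-subgroup;
* `SwR.tw` : an involution `b` with `(cmR R ⟨b⟩).index = 2` and `m1` is a transvection of `W`;
* **`SwR.exists_atR`** : `E` contains an atom `B` of `W / R` with `|B| ≥ 4`, i.e. `AtR R N B`.
-/

set_option autoImplicit false
set_option linter.unusedSectionVars false

namespace Cfsg.Agent.Omega.FOne.QR

open Subgroup Cfsg Cfsg.Agent.ZN

universe u v

variable {X : Type u} [Group X] {W : Type v} [AddCommGroup W] [DistribMulAction X W]

/-- `C_W(B)` -/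
def fxW (B : Subgroup X) : AddSubgroup W where
  carrier := {w | ∀ b ∈ B, b • w = w}
  zero_mem' := fun b _ => smul_zero b
  add_mem' := by
    intro v w hv hw b hb
    rw [smul_add, hv b hb, hw b hb]
  neg_mem' := by
    intro w hw b hb
    rw [smul_neg, hw b hb]

theorem mem_fxW {B : Subgroup X} {w : W} : w ∈ (fxW B : AddSubgroup W) ↔ ∀ b ∈ B, b • w = w := Iff.rfl

theorem fxW_le {R : AddSubgroup W} (two : ∀ w : W, w + w = 0) (B : Subgroup X) : fxW B ≤ cmR R B := by
  intro w hw b hb
  rw [hw b hb, two]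
  exact R.zero_mem

variable {R : AddSubgroup W} {θ : W} {T N : Subgroup X}

theorem mem_cmR_zpowers {b : X} (hb : b * b = 1) (two : ∀ w : W, w + w = 0) {w : W} :
    w ∈ cmR R (zpowers b) ↔ b • w + w ∈ R := by
  constructor
  · intro h
    exact h b (mem_zpowers b)
  · intro h x hx
    obtain ⟨n, rfl⟩ := mem_zpowers_iff.1 hx
    rcases Int.even_or_odd n with hn | hn
    · obtain ⟨k, rfl⟩ := hn
      have e : b ^ (k + k) = 1 := by
        rw [← two_mul, zpow_mul, zpow_two, hb, one_zpow]
      rw [e, one_smul, two]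
      exact R.zero_mem
    · obtain ⟨k, rfl⟩ := hn
      have e : b ^ (2 * k + 1) = b := by
        rw [zpow_add_one, zpow_mul, zpow_two, hb, one_zpow, one_mul]
      rw [e]
      exact h

/-- `O_2(X) = 1` -/
theorem SwR.o2_bot (S : SwR R θ T N) {P : Subgroup X} (hP : IsPGroup 2 P) (hn : P.Normal) : P = ⊥ := by
  have := S.finX
  have : Fact (Nat.Prime 2) := ⟨Nat.prime_two⟩
  have hPT : P ≤ T := by
    have h1 : IsPGroup 2 (T ⊔ P : Subgroup X) := S.T2.to_sup_of_normal_right hP
    have h2 : T ⊔ P = T := (S.T2.toSylow S.syl).is_maximal' h1 le_sup_left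
    exact le_sup_right.trans h2.le
  rw [eq_bot_iff]
  intro p hp
  rw [mem_bot]
  refine S.faith p ?_
  have key : cmR R P = ⊤ := by
    refine S.gen _ ?_ ?_
    · intro r hr b _
      rw [S.fixR b r hr, S.two]
      exact R.zero_mem
    · intro x b hb
      have h1 : x⁻¹ * b * x ∈ P := by
        have := hn.conj_mem b hb x⁻¹
        rwa [inv_inv] at this
      have h2 := S.Tθ _ (hPT h1)
      have e : b • x • θ + x • θ = x • ((x⁻¹ * b * x) • θ + θ) := by
        rw [smul_add, mul_smul, mul_smul, smul_inv_smul]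
      rw [e, S.fixR x _ h2]
      exact h2
  intro w
  have : w ∈ cmR R P := by rw [key]; exact AddSubgroup.mem_top w
  exact this p hp

/-- two involutions which act on `W > U > R` in a small way: `(b b')^4 = 1` -/
theorem SwR.pow_four (S : SwR R θ T N) {b b' : X} (hb : b * b = 1) {U : AddSubgroup W} (hRU : R ≤ U)
    (h1 : ∀ w, b' • w + w ∈ U) (h2 : ∀ u ∈ U, b • u + u ∈ R) (h3 : ∀ u ∈ U, b' • u + u ∈ R) :
    (b * b') ^ 4 = 1 := by
  have sub : ∀ (x : X) (u : W), x • u + u ∈ R → u ∈ U → x • u ∈ U := by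
    intro x u h hu
    have e : x • u = (x • u + u) + u := by rw [add_assoc, S.two, add_zero]
    rw [e]
    exact U.add_mem (hRU h) hu
  -- `b b'` on `U`
  have h4 : ∀ u ∈ U, (b * b') • u + u ∈ R := by
    intro u hu
    have e : (b * b') • u + u = (b • (b' • u + u)) + (b • u + u) := by
      rw [mul_smul, smul_add]
      calc b • b' • u + u = b • b' • u + (b • u + b • u) + u := by rw [S.two, add_zero]
        _ = _ := by abel
    rw [e, S.fixR b _ (h3 u hu)]
    exact R.add_mem (h3 u hu) (h2 u hu)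
  have h4U : ∀ u ∈ U, (b * b') • u ∈ U := fun u hu => sub _ _ (h4 u hu) hu
  have hbU : ∀ u ∈ U, b • u ∈ U := fun u hu => sub _ _ (h2 u hu) hu
  -- `b b' w = b w` modulo `U`
  have h5 : ∀ w : W, (b * b') • w + b • w ∈ U := by
    intro w
    rw [mul_smul, ← smul_add]
    exact hbU _ (h1 w)
  -- `(b b')² w = w` modulo `U`
  have h6 : ∀ w : W, (b * b') • (b * b') • w + w ∈ U := by
    intro w
    have e : (b * b') • (b * b') • w + w
        = (b * b') • ((b * b') • w + b • w) + ((b * b') • b • w + b • b • w) := by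
      have e1 : b • b • w = w := by rw [← mul_smul, hb, one_smul]
      rw [e1, smul_add]
      calc (b * b') • (b * b') • w + w
          = (b * b') • (b * b') • w + ((b * b') • b • w + (b * b') • b • w) + w := by rw [S.two, add_zero]
        _ = _ := by abel
    rw [e]
    exact U.add_mem (h4U _ (h5 w)) (h5 (b • w))
  refine S.faith _ fun w => ?_
  set ρ := b * b' with hρ
  have h7 : ∀ u ∈ U, ρ • ρ • u + u ∈ R := by
    intro u hu
    have e : ρ • ρ • u + u = (ρ • (ρ • u) + ρ • u) + (ρ • u + u) := by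
      calc ρ • ρ • u + u = ρ • ρ • u + (ρ • u + ρ • u) + u := by rw [S.two, add_zero]
        _ = _ := by abel
    rw [e]
    exact R.add_mem (h4 _ (h4U u hu)) (h4 u hu)
  have e : ρ ^ 4 • w + w = ρ • ρ • (ρ • ρ • w + w) + (ρ • ρ • w + w) := by
    have e1 : ρ ^ 4 • w = ρ • ρ • ρ • ρ • w := by
      rw [show ρ ^ 4 = ρ * ρ * ρ * ρ by simp only [pow_succ, pow_zero, one_mul], mul_smul, mul_smul, mul_smul]
    rw [e1, smul_add, smul_add]
    calc ρ • ρ • ρ • ρ • w + w = ρ • ρ • ρ • ρ • w + (ρ • ρ • w + ρ • ρ • w) + w := by rw [S.two, add_zero]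
      _ = _ := by abel
  rw [e]
  exact h7 _ (h6 w)

/-- **LEMMA TW** : an involution which is a transvection of `W / R` and centralises the lines `R + ⟨x • θ⟩` which it
normalises is a transvection of `W`. -/
theorem SwR.tw (S : SwR R θ T N) {b : X} (hb : b * b = 1) (hix : (cmR R (zpowers b)).index = 2)
    (m1 : ∀ x : X, b • x • θ + x • θ ∈ R → b • x • θ = x • θ) :
    ∃ c' : W, ∀ w : W, b • w = w ∨ b • (w + c') = w + c' := by
  have := S.finX
  have : Fact (Nat.Prime 2) := ⟨Nat.prime_two⟩
  have hmem : ∀ {w : W}, w ∈ cmR R (zpowers b) ↔ b • w + w ∈ R := mem_cmR_zpowers hb S.two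
  -- a vector outside
  obtain ⟨w₀, hw₀⟩ : ∃ w₀ : W, w₀ ∉ cmR R (zpowers b) := by
    by_contra hcon
    push Not at hcon
    have : cmR R (zpowers b) = ⊤ := by
      rw [eq_top_iff]
      intro w _
      exact hcon w
    rw [this, AddSubgroup.index_top] at hix
    omega
  have hb1 : b ≠ 1 := by
    rintro rfl
    exact hw₀ (hmem.2 (by rw [one_smul, S.two]; exact R.zero_mem))
  have bb : ∀ w : W, b • b • w = w := fun w => by rw [← mul_smul, hb, one_smul]
  set c : W := b • w₀ + w₀ with hc
  have hcf : b • c = c := by rw [hc, smul_add, bb, add_comm]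
  have hcK : c ∈ cmR R (zpowers b) := hmem.2 (by rw [hcf, S.two]; exact R.zero_mem)
  have hcR : c ∉ R := fun h => hw₀ (hmem.2 h)
  have hadd : ∀ {v w : W}, v ∉ cmR R (zpowers b) → w ∉ cmR R (zpowers b) → v + w ∈ cmR R (zpowers b) :=
    fun hv hw => add_mem_of_two hix hv hw
  -- (A), (B)
  have hA : ∀ {w : W}, w ∈ cmR R (zpowers b) → b • w + w ∈ R := fun h => hmem.1 h
  have hB : ∀ {w : W}, w ∉ cmR R (zpowers b) → b • w + w + c ∈ R := by
    intro w hw
    have h := hA (hadd hw hw₀)
    have e : b • (w + w₀) + (w + w₀) = b • w + w + c := by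
      rw [hc, smul_add]; abel
    rwa [e] at h
  -- an element of odd order inverted by `b`
  have hO : ¬ IsPGroup 2 (Subgroup.normalClosure {b} : Subgroup X) := by
    intro h
    have h1 := S.o2_bot h Subgroup.normalClosure_normal
    have h2 : b ∈ (Subgroup.normalClosure {b} : Subgroup X) := subset_normalClosure (by simp)
    rw [h1, mem_bot] at h2
    exact hb1 h2
  obtain ⟨h, hh1, hodd, hinv⟩ := Cfsg.Agent.Involutions.BaerSuzuki.exists_odd_inverted b hb hO
  have hbinv : b⁻¹ = b := inv_eq_of_mul_eq_one_left hb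
  set b' : X := h * b * h⁻¹ with hb'
  set c' : W := h • c with hc'
  have hb'2 : b' * b' = 1 := by
    rw [hb']
    calc h * b * h⁻¹ * (h * b * h⁻¹) = h * (b * b) * h⁻¹ := by group
      _ = 1 := by rw [hb]; group
  have hsm : ∀ w : W, b' • w = h • b • h⁻¹ • w := by
    intro w
    rw [hb', mul_smul, mul_smul]
  have hA' : ∀ {w : W}, h⁻¹ • w ∈ cmR R (zpowers b) → b' • w + w ∈ R := by
    intro w hw
    have h1 := hA hw
    have e : b' • w + w = h • (b • h⁻¹ • w + h⁻¹ • w) := by
      rw [hsm, smul_add, smul_inv_smul]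
    rw [e, S.fixR h _ h1]
    exact h1
  have hB' : ∀ {w : W}, h⁻¹ • w ∉ cmR R (zpowers b) → b' • w + w + c' ∈ R := by
    intro w hw
    have h1 := hB hw
    have e : b' • w + w + c' = h • (b • h⁻¹ • w + h⁻¹ • w + c) := by
      rw [hsm, smul_add, smul_add, smul_inv_smul]
    rw [e, S.fixR h _ h1]
    exact h1
  -- `b b' = h^{-2}` has odd order
  have hne : (b * b') ^ 4 ≠ 1 := by
    intro h4
    have e : b * b' = h⁻¹ * h⁻¹ := by
      have e1 : b * h * b⁻¹ = h⁻¹ := hinv
      rw [hbinv] at e1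
      calc b * b' = (b * h * b) * h⁻¹ := by rw [hb']; group
        _ = h⁻¹ * h⁻¹ := by rw [e1]
    rw [e] at h4
    have e2 : h ^ 8 = 1 := by
      have e3 : (h⁻¹ * h⁻¹) ^ 4 = (h ^ 8)⁻¹ := by group
      rw [e3, inv_eq_one] at h4
      exact h4
    have h5 : orderOf h ∣ 8 := orderOf_dvd_of_pow_eq_one e2
    have h6 : orderOf h ∣ 2 ^ 3 := by simpa using h5
    have h7 : Nat.Coprime (orderOf h) (2 ^ 3) :=
      (Nat.Coprime.pow_right 3 (Nat.coprime_two_right.2 hodd))
    have h8 : orderOf h = 1 := Nat.Coprime.eq_one_of_dvd h7 h6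
    exact hh1 (orderOf_eq_one_iff.1 h8)
  -- `c' ∉ K`
  have hc'K : c' ∉ cmR R (zpowers b) := by
    intro hcon
    apply hne
    refine S.pow_four hb (U := R ⊔ AddSubgroup.zmultiples c') le_sup_left ?_ ?_ ?_
    · intro w
      by_cases hw : h⁻¹ • w ∈ cmR R (zpowers b)
      · exact (le_sup_left : R ≤ _) (hA' hw)
      · have h1 := hB' hw
        have e : b' • w + w = (b' • w + w + c') + c' := by rw [add_assoc _ c' c', S.two, add_zero]
        rw [e]
        exact AddSubgroup.add_mem _ ((le_sup_left : R ≤ _) h1)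
          ((le_sup_right : AddSubgroup.zmultiples c' ≤ _) (AddSubgroup.mem_zmultiples c'))
    · intro u hu
      have hle : R ⊔ AddSubgroup.zmultiples c' ≤ cmR R (zpowers b) := by
        refine sup_le ?_ ?_
        · intro r hr
          exact hmem.2 (by rw [S.fixR b r hr, S.two]; exact R.zero_mem)
        · rw [AddSubgroup.zmultiples_le]
          exact hcon
      exact hA (hle hu)
    · intro u hu
      have hle : R ⊔ AddSubgroup.zmultiples c' ≤ cmR R (zpowers b') := by
        refine sup_le ?_ ?_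
        · intro r hr
          exact (mem_cmR_zpowers hb'2 S.two).2 (by rw [S.fixR b' r hr, S.two]; exact R.zero_mem)
        · rw [AddSubgroup.zmultiples_le, mem_cmR_zpowers hb'2 S.two]
          have e : b' • c' = c' := by rw [hsm, hc', inv_smul_smul, hcf]
          rw [e, S.two]
          exact R.zero_mem
      exact (mem_cmR_zpowers hb'2 S.two).1 (hle hu)
  -- `h⁻¹ c ∉ K`
  have hcK' : h⁻¹ • c ∉ cmR R (zpowers b) := by
    intro hcon
    have h4 : (b' * b) ^ 4 = 1 := by
      refine S.pow_four hb'2 (U := R ⊔ AddSubgroup.zmultiples c) le_sup_left ?_ ?_ ?_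
      · intro w
        by_cases hw : w ∈ cmR R (zpowers b)
        · exact (le_sup_left : R ≤ _) (hA hw)
        · have h1 := hB hw
          have e : b • w + w = (b • w + w + c) + c := by rw [add_assoc _ c c, S.two, add_zero]
          rw [e]
          exact AddSubgroup.add_mem _ ((le_sup_left : R ≤ _) h1)
            ((le_sup_right : AddSubgroup.zmultiples c ≤ _) (AddSubgroup.mem_zmultiples c))
      · intro u hu
        have hle : R ⊔ AddSubgroup.zmultiples c ≤ cmR R (zpowers b') := by
          refine sup_le ?_ ?_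
          · intro r hr
            exact (mem_cmR_zpowers hb'2 S.two).2 (by rw [S.fixR b' r hr, S.two]; exact R.zero_mem)
          · rw [AddSubgroup.zmultiples_le, mem_cmR_zpowers hb'2 S.two]
            exact hA' hcon
        exact (mem_cmR_zpowers hb'2 S.two).1 (hle hu)
      · intro u hu
        have hle : R ⊔ AddSubgroup.zmultiples c ≤ cmR R (zpowers b) := by
          refine sup_le ?_ ?_
          · intro r hr
            exact hmem.2 (by rw [S.fixR b r hr, S.two]; exact R.zero_mem)
          · rw [AddSubgroup.zmultiples_le]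
            exact hcK
        exact hA (hle hu)
    apply hne
    have e : b * b' = (b' * b)⁻¹ := by
      rw [mul_inv_rev, hbinv, inv_eq_of_mul_eq_one_left hb'2]
    rw [e, inv_pow, h4, inv_one]
  -- the points of the orbit
  have hpt : ∀ x : X, x • θ ∈ cmR R (zpowers b) → b • x • θ = x • θ := fun x hx => m1 x (hA hx)
  have hfix_add : ∀ {v w : W}, b • v = v → b • w = w → b • (v + w) = v + w := by
    intro v w hv hw
    rw [smul_add, hv, hw]
  have hfixR : ∀ r ∈ R, b • r = r := fun r hr => S.fixR b r hr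
  -- if `v` is congruent to `w + c + c'` or `w + c'` modulo `R`
  have hkey : ∀ x : X, b • x • θ = x • θ ∨ b • (x • θ + c') = x • θ + c' := by
    intro x
    by_cases hx : x • θ ∈ cmR R (zpowers b)
    · exact Or.inl (hpt x hx)
    right
    by_cases hx' : h⁻¹ • x • θ ∈ cmR R (zpowers b)
    · -- `f(v) = 1`, `f'(v) = 0`
      have h1 := hB hx
      set r₁ := b • x • θ + x • θ + c with hr₁
      have e1 : b • x • θ = x • θ + c + r₁ := by
        rw [hr₁]
        calc b • x • θ = b • x • θ + (x • θ + x • θ) + (c + c) := by rw [S.two, S.two, add_zero, add_zero]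
          _ = _ := by abel
      have h2 : h⁻¹ • (x • θ + c) ∉ cmR R (zpowers b) := by
        rw [smul_add]
        intro hcon
        apply hcK'
        have e : h⁻¹ • c = h⁻¹ • x • θ + (h⁻¹ • x • θ + h⁻¹ • c) := by
          rw [← add_assoc, S.two, zero_add]
        rw [e]
        exact AddSubgroup.add_mem _ hx' hcon
      have h3 := hB' h2
      set r₂ := b' • (x • θ + c) + (x • θ + c) + c' with hr₂
      have e2 : b' • b • x • θ = x • θ + c' + (c + r₂ + r₁) := by
        rw [e1, smul_add, S.fixR b' r₁ h1, hr₂]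
        calc b' • (x • θ + c) + r₁
            = b' • (x • θ + c) + ((x • θ + c) + (x • θ + c)) + (c' + c') + r₁ + (c + c) := by
              rw [S.two, S.two, S.two, add_zero, add_zero, add_zero]
          _ = x • θ + c' + (c + (b' • (x • θ + c) + (x • θ + c) + c') + r₁) + (c + c) := by abel
          _ = _ := by rw [S.two, add_zero]
      have h4 : (b' * b * x) • θ ∈ cmR R (zpowers b) := by
        rw [mul_smul, mul_smul, e2]
        refine AddSubgroup.add_mem _ (hadd hx hc'K) (AddSubgroup.add_mem _ (AddSubgroup.add_mem _ hcK ?_) ?_)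
        · exact hmem.2 (by rw [S.fixR b r₂ h3, S.two]; exact R.zero_mem)
        · exact hmem.2 (by rw [S.fixR b r₁ h1, S.two]; exact R.zero_mem)
      have h5 := hpt _ h4
      rw [mul_smul, mul_smul, e2] at h5
      have h6 : b • (c + r₂ + r₁) = c + r₂ + r₁ := hfix_add (hfix_add hcf (hfixR _ h3)) (hfixR _ h1)
      have e3 : x • θ + c' = (x • θ + c' + (c + r₂ + r₁)) + (c + r₂ + r₁) := by
        rw [add_assoc _ (c + r₂ + r₁) (c + r₂ + r₁), S.two, add_zero]
      rw [e3]
      exact hfix_add h5 h6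
    · -- `f(v) = 1 = f'(v)`
      have h1 := hB' hx'
      set r₁ := b' • x • θ + x • θ + c' with hr₁
      have e1 : b' • x • θ = x • θ + c' + r₁ := by
        rw [hr₁]
        calc b' • x • θ = b' • x • θ + (x • θ + x • θ) + (c' + c') := by rw [S.two, S.two, add_zero, add_zero]
          _ = _ := by abel
      have h4 : (b' * x) • θ ∈ cmR R (zpowers b) := by
        rw [mul_smul, e1]
        refine AddSubgroup.add_mem _ (hadd hx hc'K) ?_
        exact hmem.2 (by rw [S.fixR b r₁ h1, S.two]; exact R.zero_mem)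
      have h5 := hpt _ h4
      rw [mul_smul, e1] at h5
      have e3 : x • θ + c' = (x • θ + c' + r₁) + r₁ := by
        rw [add_assoc _ r₁ r₁, S.two, add_zero]
      rw [e3]
      exact hfix_add h5 (hfixR _ h1)
  refine ⟨c', ?_⟩
  -- the subgroup `C_W(b) ∪ (C_W(b) + c')`
  let U : AddSubgroup W :=
    { carrier := {w | b • w = w ∨ b • (w + c') = w + c'}
      zero_mem' := Or.inl (smul_zero b)
      add_mem' := by
        rintro v w (hv | hv) (hw | hw)
        · exact Or.inl (hfix_add hv hw)
        · right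
          rw [add_assoc]
          exact hfix_add hv hw
        · right
          have e : v + w + c' = (v + c') + w := by abel
          rw [e]
          exact hfix_add hv hw
        · left
          have e : v + w = (v + c') + (w + c') := by
            calc v + w = v + w + (c' + c') := by rw [S.two, add_zero]
              _ = _ := by abel
          rw [e]
          exact hfix_add hv hw
      neg_mem' := by
        intro w hw
        have e : -w = w := neg_eq_of_add_eq_zero_left (S.two w)
        rw [e]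
        exact hw }
  have hU : U = ⊤ := S.gen U (fun r hr => Or.inl (hfixR r hr)) hkey
  intro w
  have : w ∈ U := by rw [hU]; exact AddSubgroup.mem_top w
  exact this

/-- two cosets cover: the index is at most 2 -/
theorem index_le_two_of (two : ∀ w : W, w + w = 0) {F : AddSubgroup W} {c' : W}
    (h : ∀ w : W, w ∈ F ∨ w + c' ∈ F) : F.index ≤ 2 := by
  have hs : Function.Surjective (fun i : Bool => if i then (QuotientAddGroup.mk 0 : W ⧸ F) else QuotientAddGroup.mk c') := by
    intro v
    obtain ⟨w, rfl⟩ := QuotientAddGroup.mk_surjective v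
    rcases h w with hw | hw
    · refine ⟨true, ?_⟩
      simp only [if_true]
      rw [QuotientAddGroup.eq, neg_zero, zero_add]
      exact hw
    · refine ⟨false, ?_⟩
      simp only [Bool.false_eq_true, if_false]
      rw [QuotientAddGroup.eq]
      have e : -c' + w = w + c' := by
        rw [neg_eq_of_add_eq_zero_left (two c'), add_comm]
      rw [e]
      exact hw
  have h1 := Nat.card_le_card_of_surjective _ hs
  have h2 : Nat.card Bool = 2 := by simp
  rw [h2] at h1
  exact h1

/-- **#23689 (2)-(4)** : an exact elementary abelian quadratic `E ≤ N`, `|E| ≥ 4`, with `m1`, contains an atom of `W / R`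
of order at least 4. -/
theorem SwR.exists_atR (hML : ML.Final.MLK.{u, v}) (S : SwR R θ T N) {E : Subgroup X} (EN : E ≤ N)
    (sq : ∀ e ∈ E, e * e = 1) (quad : ∀ a ∈ E, ∀ b ∈ E, ∀ w : W, a • (b • w + w) = b • w + w)
    (four : 4 ≤ Nat.card E) (off : (fxW E : AddSubgroup W).index ≤ Nat.card E)
    (min : ∀ C : Subgroup X, C ≤ E → C ≠ ⊥ → C ≠ E → Nat.card C < (fxW C : AddSubgroup W).index)
    (m1 : ∀ e ∈ E, ∀ x : X, e • x • θ + x • θ ∈ R → e • x • θ = x • θ) :
    (cmR R E = fxW E ∧ (cmR R E).index = Nat.card E) ∧ ∃ B ≤ E, AtR R N B := by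
  have := S.finX
  have := S.finW
  have : Fact (Nat.Prime 2) := ⟨Nat.prime_two⟩
  have hE1 : E ≠ ⊥ := by
    rintro rfl
    rw [Subgroup.card_bot] at four
    omega
  have hno : Nat.card E ≤ (cmR R E).index := S.no hML EN sq
  have hle : (fxW E : AddSubgroup W) ≤ cmR R E := fxW_le S.two E
  have hrel : (fxW E : AddSubgroup W).relIndex (cmR R E) * (cmR R E).index = (fxW E : AddSubgroup W).index :=
    AddSubgroup.relIndex_mul_index hle
  have hpos : 0 < (cmR R E).index := Nat.pos_of_ne_zero AddSubgroup.index_ne_zero_of_finite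
  have hrel0 : (fxW E : AddSubgroup W).relIndex (cmR R E) ≠ 0 := by
    intro h
    rw [h, zero_mul] at hrel
    exact AddSubgroup.index_ne_zero_of_finite hrel.symm
  have h1 : (cmR R E).index ≤ (fxW E : AddSubgroup W).index := by
    rw [← hrel]
    exact Nat.le_mul_of_pos_left _ (Nat.pos_of_ne_zero hrel0)
  have hex : (cmR R E).index = Nat.card E := le_antisymm (h1.trans off) hno
  have hrel1 : (fxW E : AddSubgroup W).relIndex (cmR R E) = 1 := by
    have h2 : (fxW E : AddSubgroup W).relIndex (cmR R E) * (cmR R E).index ≤ 1 * (cmR R E).index := by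
      rw [hrel, one_mul, hex]
      exact off
    have h3 := Nat.le_of_mul_le_mul_right h2 hpos
    omega
  have heq : cmR R E = fxW E := le_antisymm (AddSubgroup.relIndex_eq_one.1 hrel1) hle
  refine ⟨⟨heq, hex⟩, ?_⟩
  obtain ⟨B, hBE, hB1, hBex, hBat⟩ := exists_atom hE1 hex
    (fun C hC => S.no hML (hC.trans EN) fun c hc => sq c (hC hc))
  have hB2 : IsPGroup 2 B := S.N2.to_le (hBE.trans EN)
  have hB4 : 4 ≤ Nat.card B := by
    rcases card_cases hB2 hB1 with h2 | h4
    · exfalso
      obtain ⟨b, hbB, hb1, hgen⟩ := exists_gen_of_two h2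
      have hBz : B = zpowers b := by
        refine le_antisymm (fun x hx => ?_) (by rw [zpowers_le]; exact hbB)
        rcases hgen x hx with rfl | rfl
        · exact one_mem _
        · exact mem_zpowers _
      have hix : (cmR R (zpowers b)).index = 2 := by rw [← hBz, hBex, h2]
      obtain ⟨c', hc'⟩ := S.tw (sq b (hBE hbB)) hix (fun x hx => m1 b (hBE hbB) x hx)
      have hfx : ∀ w : W, b • w = w → w ∈ (fxW B : AddSubgroup W) := by
        intro w hw x hx
        rcases hgen x hx with rfl | rfl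
        · exact one_smul _ w
        · exact hw
      have h3 : (fxW B : AddSubgroup W).index ≤ 2 := by
        refine index_le_two_of S.two (c' := c') fun w => ?_
        rcases hc' w with h | h
        · exact Or.inl (hfx w h)
        · exact Or.inr (hfx _ h)
      have h4 : B ≠ E := by
        rintro rfl
        omega
      have h5 := min B hBE hB1 h4
      omega
    · exact h4
  refine ⟨B, hBE, ?_⟩
  exact
    { BN := hBE.trans EN
      sq := fun b hb => sq b (hBE hb)
      quad := by
        intro a ha b hb w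
        rw [quad a (hBE ha) b (hBE hb) w, S.two]
        exact R.zero_mem
      four := hB4
      exact := hBex
      atom := hBat }

/-- the end: a faithful section with (LA) -/
theorem SwR.exists_fs_of (hML : ML.Final.MLK.{u, v}) (S : SwR R θ T N) {E : Subgroup X} (EN : E ≤ N)
    (sq : ∀ e ∈ E, e * e = 1) (quad : ∀ a ∈ E, ∀ b ∈ E, ∀ w : W, a • (b • w + w) = b • w + w)
    (four : 4 ≤ Nat.card E) (off : (fxW E : AddSubgroup W).index ≤ Nat.card E)
    (min : ∀ C : Subgroup X, C ≤ E → C ≠ ⊥ → C ≠ E → Nat.card C < (fxW C : AddSubgroup W).index)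
    (m1 : ∀ e ∈ E, ∀ x : X, e • x • θ + x • θ ∈ R → e • x • θ = x • θ) :
    ∃ (X' : Type u) (_ : Group X') (W' : Type v) (_ : AddCommGroup W') (_ : DistribMulAction X' W')
      (R' : AddSubgroup W') (θ' : W') (T' B' : Subgroup X'), FsR R' θ' T' B' ∧ LaR R' θ' T' := by
  obtain ⟨_, B, _, hB⟩ := S.exists_atR hML EN sq quad four off min m1
  exact S.exists_fs hML hB

end Cfsg.Agent.Omega.FOne.QR

end
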