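import Cfsg.Agent.Mrg.Omega.FOne.QR.Def
import Cfsg.Agent.Mrg.Omega.FOne.ActR.End


/-!
# (F1), the K-route for `R` of any size: (nmax)

`FsR.nmax` : in the faithful section `T` is in at least two maximal subgroups of `X`.
-/

set_option autoImplicit false

namespace Cfsg.Agent.Omega.FOne.QR

open Subgroup Cfsg Cfsg.Agent.ZN

universe u

variable {X : Type u} [Group X] {W : Type u} [AddCommGroup W] [DistribMulAction X W]

/-- **(nmax)** -/
theorem FsR.nmax {R : AddSubgroup W} {θ : W} {T B : Subgroup X} (F : FsR R θ T B) :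
    ¬ ∃ N : Subgroup X, N ≠ ⊤ ∧ ∀ Q : Subgroup X, T ≤ Q → Q ≠ ⊤ → Q ≤ N := by
  have := F.finX
  have := F.finW
  exact ActR.no_minR (cmR R) (fun _ _ => Iff.rfl) F.two F.fixR F.faith F.T2 F.syl F.fixT F.Tθ F.gen F.BT F.sq
    F.four F.exact F.atom

/-- **(nmax)**, the form of the request -/
theorem FsR.false_of_max {R : AddSubgroup W} {θ : W} {T B : Subgroup X} (F : FsR R θ T B) (M0 : Subgroup X)
    (hM : M0 ≠ ⊤) (h : ∀ Q : Subgroup X, T ≤ Q → Q ≠ ⊤ → Q ≤ M0) : False :=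
  F.nmax ⟨M0, hM, h⟩

end Cfsg.Agent.Omega.FOne.QR
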