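import Cfsg.Agent.Mrg.Omega.FOne.QR.Def
import Cfsg.Agent.Mrg.Omega.FOne.QR.Nmax
import Cfsg.Agent.Mrg.Omega.ML.Ex.RowTitsX


/-!
# (F1), the K-route for `R` of any size: from the faithful section to `PsR` (helper69)

* `wactR` : `X` acts on `Multiplicative W`;
* `psR_of` : `FsR` and (LA) give helper854's `PsR`;
* **`SwR.false`** : `SwR`, `AtR` are contradictory, given (ML) and the pieces behind `PsR`.
-/

set_option autoImplicit false
set_option linter.unusedSectionVars false

namespace Cfsg.Agent.Omega.FOne.QR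

open Subgroup Cfsg Cfsg.Agent.ZN Cfsg.Agent.Omega.NOThree.NoOver
open Cfsg.Agent.ClassTwoFusion.Quad (cv mem_cv)
open Cfsg.Agent.Omega.ML.Ex (LA PsR EndPieces)

universe u

variable {X : Type u} [Group X] {W : Type u} [AddCommGroup W] [DistribMulAction X W]

/-- `X` acts on `W`, written multiplicatively -/
@[reducible] def wactR (X : Type u) [Group X] (W : Type u) [AddCommGroup W] [DistribMulAction X W] :
    MulDistribMulAction X (Multiplicative W) where
  smul x v := Multiplicative.ofAdd (x • Multiplicative.toAdd v)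
  one_smul v := by
    change Multiplicative.ofAdd ((1 : X) • Multiplicative.toAdd v) = v
    rw [one_smul]; rfl
  mul_smul x y v := by
    change Multiplicative.ofAdd ((x * y) • Multiplicative.toAdd v) =
      Multiplicative.ofAdd (x • (y • Multiplicative.toAdd v))
    rw [mul_smul]
  smul_mul x v w := by
    change Multiplicative.ofAdd (x • (Multiplicative.toAdd v + Multiplicative.toAdd w)) = _
    rw [smul_add]; rfl
  smul_one x := by
    change Multiplicative.ofAdd (x • (0 : W)) = 1
    rw [smul_zero]; rfl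

section conj

variable {R : AddSubgroup W} {B : Subgroup X}

theorem mem_cj_iff {G : Type*} [Group G] {g : G} {C : Subgroup G} {x : G} : x ∈ cj g C ↔ ∃ c ∈ C, x = g * c * g⁻¹ := by
  constructor
  · rintro ⟨c, hc, rfl⟩
    exact ⟨c, hc, rfl⟩
  · rintro ⟨c, hc, rfl⟩
    exact ⟨c, hc, rfl⟩

theorem card_cj {G : Type*} [Group G] (g : G) (C : Subgroup G) : Nat.card (cj g C) = Nat.card C :=
  Nat.card_congr (C.equivMapOfInjective _ (MulAut.conj g).injective).symm.toEquiv

theorem index_cmR_cj (b : Bs X R) (g : X) (C : Subgroup X) : (cmR R (cj g C)).index = (cmR R C).index := by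
  have h1 : (cmR R (cj g C)).comap (DistribSMul.toAddMonoidHom W g) = cmR R C := by
    ext w
    rw [AddSubgroup.mem_comap, DistribSMul.toAddMonoidHom_apply, mem_cmR, mem_cmR]
    constructor
    · intro h c hc
      have h2 := h _ (mem_cj_iff.2 ⟨c, hc, rfl⟩)
      have e : (g * c * g⁻¹) • g • w + g • w = g • (c • w + w) := by
        rw [smul_add, mul_smul, mul_smul, inv_smul_smul]
      rw [e] at h2
      have h3 := b.fixR g⁻¹ _ h2
      rw [inv_smul_smul] at h3
      rw [h3]; exact h2
    · intro h x hx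
      obtain ⟨c, hc, rfl⟩ := mem_cj_iff.1 hx
      have e : (g * c * g⁻¹) • g • w + g • w = g • (c • w + w) := by
        rw [smul_add, mul_smul, mul_smul, inv_smul_smul]
      rw [e, b.fixR g _ (h c hc)]
      exact h c hc
  rw [← h1]
  exact (AddSubgroup.index_comap_of_surjective _ (MulAction.surjective g)).symm

theorem cj_cj_inv {G : Type*} [Group G] (g : G) (C : Subgroup G) : cj g (cj g⁻¹ C) = C := by
  ext x
  rw [mem_cj_iff]
  constructor
  · rintro ⟨c, hc, rfl⟩
    obtain ⟨d, hd, rfl⟩ := mem_cj_iff.1 hc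
    have e : g * (g⁻¹ * d * g⁻¹⁻¹) * g⁻¹ = d := by group
    rwa [e]
  · intro hx
    exact ⟨g⁻¹ * x * g⁻¹⁻¹, mem_cj_iff.2 ⟨x, hx, rfl⟩, by group⟩

theorem cj_inv_cj {G : Type*} [Group G] (g : G) (C : Subgroup G) : cj g⁻¹ (cj g C) = C := by
  have := cj_cj_inv g⁻¹ C
  rwa [inv_inv] at this

/-- a conjugate of an atom -/
theorem atR_cj (b : Bs X R) (g : X) {N : Subgroup X} (hN : cj g B ≤ N) (sq : ∀ c ∈ B, c * c = 1)
    (quad : ∀ a ∈ B, ∀ c ∈ B, ∀ w : W, a • (c • w + w) + (c • w + w) ∈ R) (four : 4 ≤ Nat.card B)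
    (exact_ : (cmR R B).index = Nat.card B)
    (atom : ∀ C : Subgroup X, C ≤ B → C ≠ ⊥ → C ≠ B → Nat.card C < (cmR R C).index) : AtR R N (cj g B) where
  BN := hN
  sq := by
    intro x hx
    obtain ⟨c, hc, rfl⟩ := mem_cj_iff.1 hx
    have e : g * c * g⁻¹ * (g * c * g⁻¹) = g * (c * c) * g⁻¹ := by group
    rw [e, sq c hc]; group
  quad := by
    intro x hx y hy w
    obtain ⟨a, ha, rfl⟩ := mem_cj_iff.1 hx
    obtain ⟨c, hc, rfl⟩ := mem_cj_iff.1 hy
    have h1 := quad a ha c hc (g⁻¹ • w)
    have e1 : (g * c * g⁻¹) • w + w = g • (c • g⁻¹ • w + g⁻¹ • w) := by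
      rw [smul_add, smul_inv_smul, mul_smul, mul_smul]
    have e2 : (g * a * g⁻¹) • (g • (c • g⁻¹ • w + g⁻¹ • w)) + g • (c • g⁻¹ • w + g⁻¹ • w) =
        g • (a • (c • g⁻¹ • w + g⁻¹ • w) + (c • g⁻¹ • w + g⁻¹ • w)) := by
      generalize c • g⁻¹ • w + g⁻¹ • w = v
      rw [smul_add, mul_smul, mul_smul, inv_smul_smul]
    rw [e1, e2, b.fixR g _ h1]
    exact h1
  four := by rw [card_cj]; exact four
  exact := by rw [index_cmR_cj b, card_cj]; exact exact_
  atom := by
    intro C hC hC1 hCB
    have h1 : cj g⁻¹ C ≤ B := by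
      have h2 : cj g⁻¹ C ≤ cj g⁻¹ (cj g B) := map_mono hC
      rwa [cj_inv_cj] at h2
    have h2 := atom (cj g⁻¹ C) h1 (fun h => hC1 ?_) (fun h => hCB ?_)
    · rwa [card_cj, index_cmR_cj b] at h2
    · rw [← cj_cj_inv g C, h]
      exact map_bot _
    · rw [← cj_cj_inv g C, h]

end conj

/-- exactness on `W / R` -/
theorem index_cv_eq {R : AddSubgroup W} (two : ∀ w : W, w + w = 0) (hR : ∀ x : X, ∀ r ∈ R, x • r = r) (C : Subgroup X) :
    letI := act (X := X) hR
    (cv (MR R) (C : Set X)).index = (cmR R C).index := by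
  letI := act (X := X) hR
  have h1 := Subgroup.index_comap_of_surjective (cv (MR R) (C : Set X)) (mkH_surj R)
  rw [← h1]
  have h2 : (cv (MR R) (C : Set X)).comap (mkH R) = AddSubgroup.toSubgroup (cmR R C) := by
    ext w
    rw [mem_comap, mem_cv]
    change (∀ a ∈ (C : Set X), a • mk R (Multiplicative.toAdd w) = mk R (Multiplicative.toAdd w)) ↔
      Multiplicative.toAdd w ∈ cmR R C
    rw [mem_cmR]
    constructor
    · intro h3 a ha
      exact (mk_eq' two).1 (h3 a ha)
    · intro h3 a ha
      exact (mk_eq' two).2 (h3 a ha)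
  rw [h2]
  rfl

/-- **`FsR` and (LA) give `PsR`.** -/
theorem psR_of {R : AddSubgroup W} {θ : W} {T B : Subgroup X} (F : FsR R θ T B) (hL : LaR R θ T) :
    letI := act (X := X) F.fixR
    letI := wactR X W
    PsR (X := X) (M := MR R) (W := Multiplicative W) T B (mkH R) (mk R θ) := by
  classical
  letI := act (X := X) F.fixR
  letI := wactR X W
  have hfX := F.finX
  have hfW := F.finW
  have b : Bs X R := ⟨F.two, F.fixR⟩
  have hsm : ∀ (x : X) (w : W), x • mk R w = mk R (x • w) := fun _ _ => rfl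
  have hwm : ∀ (x : X) (w : Multiplicative W), x • w = Multiplicative.ofAdd (x • Multiplicative.toAdd w) :=
    fun _ _ => rfl
  have hp : ∀ w : Multiplicative W, mkH R w = mk R (Multiplicative.toAdd w) := fun _ => rfl
  have hmi : ∀ w : W, (mk R w)⁻¹ = mk R w := by
    intro w
    rw [inv_eq_iff_mul_eq_one, ← mk_add, F.two, mk_zero]
  refine
    { known := F.known
      sq := fun w => congrArg Multiplicative.ofAdd (F.two (Multiplicative.toAdd w))
      eqv := fun x w => rfl
      surj := mkH_surj R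
      ker := fun w hw x => ?_
      faith := fun x hx => F.faith x fun w => (mk_eq' F.two).1 (hx (mk R w))
      core := ?_
      two := F.T2
      syl := F.syl
      fixT := fun w hw => ?_
      gen := ?_
      BT := F.BT
      el := F.sq
      quad := ?_
      four := F.four
      exact := ?_
      atom := ?_
      low := F.low
      nmax := F.nmax
      la := ⟨fun t ht => (mk_eq' F.two).2 (F.Tθ t ht), fun h => F.θR (mk_one.1 h), ?_⟩ }
  · rw [hp, mk_one] at hw
    rw [hwm, F.fixR x _ hw]; rfl
  · intro N hN hN2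
    have : Fact (Nat.Prime 2) := ⟨Nat.prime_two⟩
    have h1 : IsPGroup 2 (T ⊔ N : Subgroup X) := F.T2.to_sup_of_normal_right hN2
    have h2 : T ⊔ N = T := (F.T2.toSylow F.syl).is_maximal' h1 le_sup_left
    have hNT : N ≤ T := le_sup_right.trans h2.le
    rw [eq_bot_iff]
    intro n hn
    rw [mem_bot]
    refine F.faith n fun w => ?_
    have h3 : n ∈ kk b (sp R (⊤ : Subgroup X) θ) := by
      rw [mem_kk_sp]
      intro x _
      have h4 : x⁻¹ * n * x ∈ N := by
        have := hN.conj_mem n hn x⁻¹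
        rwa [inv_inv] at this
      have h5 := F.Tθ _ (hNT h4)
      have e : n • x • θ + x • θ = x • ((x⁻¹ * n * x) • θ + θ) := by
        rw [smul_add, mul_smul, mul_smul, smul_inv_smul]
      rw [e, F.fixR x _ h5]
      exact h5
    have h4 : sp R (⊤ : Subgroup X) θ = ⊤ := F.gen _ (le_sp R _ θ) fun x => smul_mem_sp' R θ (mem_top x)
    rw [h4] at h3
    exact h3 w (AddSubgroup.mem_top w)
  · rw [hp, mk_one]
    exact F.fixT _ fun t ht => congrArg Multiplicative.toAdd (hw t ht)
  · intro U hU hθ
    rw [eq_top_iff]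
    intro m _
    obtain ⟨w, rfl⟩ := mk_surj m
    let V : AddSubgroup W :=
      { carrier := {w | mk R w ∈ U}
        zero_mem' := by
          change mk R 0 ∈ U
          rw [mk_zero]; exact U.one_mem
        add_mem' := by
          intro v w hv hw
          change mk R (v + w) ∈ U
          rw [mk_add]; exact U.mul_mem hv hw
        neg_mem' := by
          intro w hw
          change mk R (-w) ∈ U
          have : mk R (-w) = (mk R w)⁻¹ := rfl
          rw [this]; exact U.inv_mem hw }
    have h1 : V = ⊤ := by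
      refine F.gen V ?_ ?_
      · intro r hr
        change mk R r ∈ U
        rw [mk_one.2 hr]; exact U.one_mem
      · intro x
        exact hU x _ hθ
    have h2 : w ∈ V := by rw [h1]; exact AddSubgroup.mem_top w
    exact h2
  · intro a ha c hc m
    obtain ⟨w, rfl⟩ := mk_surj m
    rw [hmi, hsm, ← mk_add, hsm, mk_eq' F.two]
    exact F.quad c hc a ha w
  · rw [index_cv_eq F.two F.fixR]
    exact F.exact
  · intro C hC hC1 hCB
    rw [index_cv_eq F.two F.fixR]
    exact F.atom C hC hC1 hCB
  · intro g hg Q hTQ hQ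
    refine hL (MulAction.stabilizer X (mk R θ)) (fun x => ?_) (cj g B) ?_ Q hTQ hQ
    · rw [MulAction.mem_stabilizer_iff, hsm, mk_eq' F.two]
    · exact atR_cj b g hg F.sq F.quad F.four F.exact F.atom

/-- **`FsR` with (LA) is impossible.** -/
theorem fsR_no {R : AddSubgroup W} {θ : W} {T B : Subgroup X} (hE : EndPieces.{u, u, u}) (F : FsR R θ T B)
    (hL : LaR R θ T) : False := by
  letI := act (X := X) F.fixR
  letI := wactR X W
  have hfX := F.finX
  have hfW := F.finW
  have : Finite (MR R) := Finite.of_surjective (mkH R) (mkH_surj R)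
  have : Finite (Multiplicative W) := hfW
  exact hE.false (psR_of F hL)

/-- **`SwR` with an atom of order at least 4 is impossible.** -/
theorem SwR.false {R : AddSubgroup W} {θ : W} {T N B : Subgroup X} (hML : ML.Final.MLK.{u, u})
    (hE : EndPieces.{u, u, u}) (S : SwR R θ T N) (hB : AtR R N B) : False := by
  obtain ⟨X', _, W', _, _, R', θ', T', B', F, hL⟩ := S.exists_fs hML hB
  exact fsR_no hE F hL

end Cfsg.Agent.Omega.FOne.QR
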